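import Cfsg.Agent.Mrg.Omega.TC.No
import Cfsg.Agent.Mrg.Omega.OM.KTwo.LemX
import Cfsg.Agent.Mrg.Omega.TC.ThmI
import Cfsg.Agent.Mrg.Omega.NO3S.EThree.ExactB
import Cfsg.Agent.Mrg.Omega.BTwo.Basic
import Cfsg.Agent.Mrg.Omega.TC.Int

section


/-!
# CARD #18791, THEOREM R (helper691 #21425), basic facts over `Fr`, no swap, no `J`

* `VOff T` : (V!) every `T`-invariant elementary abelian `X ≤ T`, `X ≰ Ω₁Z(T)`, has an offender in `T` (only the
  index inequality is used);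
* `zc_o2` : (V!) gives `Ω₁Z(O₂(P i)) ≤ V i ⟨v j⟩`;
* `XX V v i = W_i N_i`; `Fr.X_comm`, `Fr.X_sq`, `Fr.X_le_Q`, `Fr.comm_X_Q`, `Fr.C_le_N_X`;
* `Fr.nob_X` : `|B : C_B(X_i)| ≤ |X_i : C_{X_i}(B)|` for `B ≤ O₂(D)` elementary abelian;
* `absorb` : `N ≤ Y`, `|Y : C_Y(A)| ≤ |N : C_N(A)|` implies `[Y, A] ≤ N`.
-/

set_option autoImplicit false
set_option linter.unusedSectionVars false

namespace Cfsg.Agent.Omega.TC

open Subgroup Cfsg Cfsg.Agent.ZN Cfsg.Agent.Omega.MinPar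
open Cfsg.Agent.Omega.OM.KTwo (CC QQ WU NU EU FF ne_add_one eq_add_one add_one_add_one le_normalizer_V le_V)
open Cfsg.Agent.Omega.NoFF.Basic (conj_conj mem_conj conj_le_iff conj_le_centralizer comm_symm comm_mono
  Z_le_V V_le conj_V_mul)
open Cfsg.Agent.Omega.TC.ThmI (rel_le_two two_le_rel three_le_rel)
open Cfsg.Agent.Omega.OM.PG.Peel (Nob nob_of nob_two)
open Cfsg.Agent.Omega.NO3S.EThree.ExactA (eab_iff eab_mono)
open scoped Pointwise

universe u

variable {G : Type u} [Group G]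

theorem fin2_cases {i j : Fin 2} (hij : i ≠ j) : (i = 0 ∧ j = 1) ∨ (i = 1 ∧ j = 0) := by
  revert i j; decide

theorem card_rel {H K : Subgroup G} (h : H ≤ K) : Nat.card H * H.relIndex K = Nat.card K := by
  rw [← relIndex_bot_left (H := H), ← relIndex_bot_left (H := K)]
  exact relIndex_mul_relIndex _ _ _ bot_le h

/-- **(V!)**, index form -/
def VOff (T : Subgroup G) : Prop :=
  ∀ X : Subgroup G, X ≤ T → T ≤ normalizer (X : Set G) → X ≤ centralizer (X : Set G) → (∀ x ∈ X, x ^ 2 = 1) →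
    ¬ X ≤ zc T → ∃ A ≤ T, ¬ A ≤ centralizer (X : Set G) ∧
      (centralizer (A : Set G)).relIndex X ≤ (centralizer (X : Set G)).relIndex A

/-- the two uses of (V!) in THEOREM R (helper609 #23569 (3)): `T`-invariant elementary abelian `X`,
`V i ≤ X ≤ O = O₂(C(Ω₁Z(T)))`, has an offender in `T` -/
def WOff (T : Subgroup G) (V : Fin 2 → Subgroup G) (i : Fin 2) : Prop :=
  ∀ X : Subgroup G, V i ≤ X → X ≤ o2 (centralizer (zc T : Set G)) → T ≤ normalizer (X : Set G) →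
    X ≤ centralizer (X : Set G) → (∀ x ∈ X, x ^ 2 = 1) → ∃ A ≤ T, ¬ A ≤ centralizer (X : Set G) ∧
      (centralizer (A : Set G)).relIndex X ≤ (centralizer (X : Set G)).relIndex A

/-- `X_i = W_i N_i` -/
abbrev XX (V : Fin 2 → Subgroup G) (v : Fin 2 → G) (i : Fin 2) : Subgroup G := WU V v i ⊔ NU V v i

/-- `|Y : C_Y(A)| ≤ |N : C_N(A)|`, `N ≤ Y`: `[Y, A] ≤ N`. -/
theorem absorb [Finite G] {N Y A : Subgroup G} (hN : N ≤ Y) (Yc : Y ≤ centralizer (Y : Set G))
    (hn : A ≤ normalizer (N : Set G))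
    (h : (centralizer (A : Set G)).relIndex Y ≤ (centralizer (A : Set G)).relIndex N) :
    ∀ y ∈ Y, ∀ a ∈ A, a * y * a⁻¹ * y⁻¹ ∈ N := by
  set K := Y ⊓ centralizer (A : Set G) with hK
  have f1 : K.relIndex Y = (centralizer (A : Set G)).relIndex Y := inf_relIndex_left _ _
  have f3 : K.relIndex N = (centralizer (A : Set G)).relIndex N := by
    rw [← inf_relIndex_right K, ← inf_relIndex_right (centralizer (A : Set G)), hK, inf_comm Y, inf_assoc,
      inf_eq_right.2 hN]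
  have f6 := relIndex_mul_relIndex K (N ⊔ K) Y le_sup_right (sup_le hN inf_le_left)
  have f7 : K.relIndex N ≤ K.relIndex (N ⊔ K) := relIndex_le_of_le_right le_sup_left index_ne_zero_of_finite
  have f8 : 0 < K.relIndex (N ⊔ K) := OM.PG.Peel.rel_pos _ _
  have f9 : (N ⊔ K).relIndex Y ≤ 1 := by
    have f10 : K.relIndex (N ⊔ K) * (N ⊔ K).relIndex Y ≤ K.relIndex (N ⊔ K) * 1 := by
      rw [f6, f1, mul_one]
      exact h.trans (f3 ▸ f7)
    exact Nat.le_of_mul_le_mul_left f10 f8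
  have f11 : 0 < (N ⊔ K).relIndex Y := OM.PG.Peel.rel_pos _ _
  have f12 : Y ≤ N ⊔ K := relIndex_eq_one.1 (by omega)
  have hNK : N ≤ centralizer (K : Set G) := fun n hn' => centralizer_le (inf_le_left : K ≤ Y) (Yc (hN hn'))
  intro y hy a ha
  obtain ⟨n, hn', k, hk, rfl⟩ := OM.PG.Peel.exists_mul_of_comm hNK (f12 hy)
  have h1 : a * k = k * a := mem_centralizer_iff.1 hk.2 a ha
  have e : a * (n * k) * a⁻¹ * (n * k)⁻¹ = (a * n * a⁻¹) * n⁻¹ := by
    calc a * (n * k) * a⁻¹ * (n * k)⁻¹ = a * n * (k * a⁻¹) * k⁻¹ * n⁻¹ := by group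
      _ = a * n * (a⁻¹ * k) * k⁻¹ * n⁻¹ := by
        have : k * a⁻¹ = a⁻¹ * k := by
          calc k * a⁻¹ = a⁻¹ * (a * k) * a⁻¹ := by group
            _ = a⁻¹ * k := by rw [h1]; group
        rw [this]
      _ = _ := by group
  rw [e]
  exact mul_mem ((mem_normalizer_iff.1 (hn ha) n).1 hn') (inv_mem hn')

/-- the index inequality for a maximal elementary abelian group -/
theorem rel_le_of_max [Finite G] {A B Y O : Subgroup G} (hAe : IsElementaryAbelian 2 A) (hBA : B ≤ A)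
    (hYe : IsElementaryAbelian 2 Y) (hBY : B ≤ centralizer (Y : Set G)) (hBO : B ≤ O) (hYO : Y ≤ O)
    (hmax : ∀ A' : Subgroup G, IsElementaryAbelian 2 A' → A' ≤ O → Nat.card A' ≤ Nat.card A) :
    (centralizer (A : Set G)).relIndex Y ≤ B.relIndex A := by
  have hBe : IsElementaryAbelian 2 B := eab_mono hAe hBA
  have hsup : IsElementaryAbelian 2 (B ⊔ Y : Subgroup G) := by
    rw [eab_iff]
    have hB := eab_iff.1 hBe
    have hY := eab_iff.1 hYe
    have hc : B ⊔ Y ≤ centralizer ((B ⊔ Y : Subgroup G) : Set G) :=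
      sup_le (comm_symm (sup_le hB.1 (comm_symm hBY))) (comm_symm (sup_le hBY hY.1))
    refine ⟨hc, ?_⟩
    intro x hx
    obtain ⟨b, hb, y, hy, rfl⟩ := OM.PG.Peel.exists_mul_of_comm hBY hx
    have h1 : b * y = y * b := (mem_centralizer_iff.1 (hBY hb) y hy).symm
    calc (b * y) ^ 2 = b * (y * b) * y := by rw [pow_two]; group
      _ = b ^ 2 * y ^ 2 := by rw [← h1, pow_two, pow_two]; group
      _ = 1 := by rw [hB.2 b hb, hY.2 y hy, one_mul]
  have h1 := hmax _ hsup (sup_le hBO hYO)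
  -- `B.relIndex (B ⊔ Y) ≤ B.relIndex A`
  have h2 : Nat.card B * B.relIndex (B ⊔ Y) = Nat.card (B ⊔ Y : Subgroup G) := card_rel le_sup_left
  have h3 : Nat.card B * B.relIndex A = Nat.card A := card_rel hBA
  have h4 : B.relIndex (B ⊔ Y) ≤ B.relIndex A := by
    refine Nat.le_of_mul_le_mul_left ?_ (Nat.card_pos (α := B))
    rw [h2, h3]; exact h1
  refine le_trans ?_ h4
  refine le_trans ?_ (relIndex_le_of_le_right (le_sup_right : Y ≤ B ⊔ Y) index_ne_zero_of_finite)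
  have hYN : Y ⊓ B ≤ centralizer (A : Set G) := inf_le_right.trans (hBA.trans (eab_iff.1 hAe).1)
  rw [← inf_relIndex_left Y B, ← inf_relIndex_left Y (centralizer (A : Set G))]
  exact relIndex_le_of_le_left (le_inf inf_le_left hYN) index_ne_zero_of_finite

namespace Fr

variable [Finite G] {T : Subgroup G} {V P : Fin 2 → Subgroup G} {v : Fin 2 → G} (D : Fr T V P v)

include D

/-! ### (V!) -/

/-- **(V!)** gives `WOff` -/
theorem woff (hB : VOff T) (i : Fin 2) : WOff T V i := by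
  intro X hVX hXO hXn hXc hX2
  refine hB X (hXO.trans D.o2D_le_T) hXn hXc hX2 fun h => ?_
  obtain ⟨e, he, he1, hev⟩ := D.exists_ne_v i
  refine hev (D.eq_v he he1 fun t ht => ?_)
  have h1 := (mem_zc.1 (h (hVX he))).2.1 t ht
  rw [h1, mul_inv_cancel_right]

/-- `J(O)` moves `V i`, `O = O₂(C(Ω₁Z(T)))`, gives `WOff` -/
theorem woff_of_AA {i : Fin 2} {A : Subgroup G} (hA : A ∈ ChoiceBase.AA (o2 (centralizer (zc T : Set G))))
    (hm : ¬ A ≤ centralizer (V i : Set G)) : WOff T V i := by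
  intro X hVX hXO _ hXc hX2
  refine ⟨A, hA.2.1.trans D.o2D_le_T, fun h => hm (h.trans (centralizer_le hVX)), ?_⟩
  have h1 := rel_le_of_max (A := A) (B := A ⊓ centralizer (X : Set G)) (Y := X)
    (O := o2 (centralizer (zc T : Set G))) hA.1 inf_le_left (eab_iff.2 ⟨hXc, hX2⟩) inf_le_right
    (inf_le_left.trans hA.2.1) hXO hA.2.2
  rwa [inf_relIndex_left] at h1

/-- `Ω₁Z(O₂(P i)) ≤ O` -/
theorem zc_o2_le (i : Fin 2) : zc (o2 (P i)) ≤ o2 (centralizer (zc T : Set G)) := by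
  have ho : o2 (P i) = T ⊓ centralizer (V i : Set G) := Phi.o2_P D i
  have hQo : QQ v (i + 1) ≤ o2 (P i) := by
    rw [ho]
    refine le_inf (D.Q_le_T _) ?_
    exact (D.half (ne_add_one i).symm).2
  intro x hx
  have hxT : x ∈ T := by
    have := zc_le _ hx
    rw [ho] at this
    exact this.1
  exact D.Q_le_o2D (i + 1) (D.isChar2 (i + 1) ⟨D.T_le_C (i + 1) hxT,
    mem_centralizer_iff.2 fun q hq => (mem_zc.1 hx).2.1 q (hQo hq)⟩)

/-! ### `Ω₁Z(O₂(P i))` -/

/-- (V!) ⇒ `Ω₁Z(O₂(P i)) ≤ V i ⟨v j⟩` -/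
theorem mem_zc_o2 {i : Fin 2} (hB : WOff T V i) {j : Fin 2} (hij : i ≠ j) {x : G} (hx : x ∈ zc (o2 (P i))) :
    ∃ a ∈ V i, x = a ∨ x = a * v j := by
  have ho : o2 (P i) = T ⊓ centralizer (V i : Set G) := Phi.o2_P D i
  have hoT : o2 (P i) ≤ T := by rw [ho]; exact inf_le_left
  obtain ⟨e, he, he1, hev⟩ := D.exists_ne_v i
  set Y := zc (o2 (P i)) with hY
  have hYo : Y ≤ o2 (P i) := zc_le _
  have hVY : V i ≤ Y := by
    intro y hy
    rw [hY, mem_zc, ho]
    refine ⟨⟨D.V_le_T i hy, ?_⟩, fun t ht => ?_, D.sqV i y hy⟩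
    · exact mem_centralizer_iff.2 fun z hz => D.V_comm hz hy
    · exact (mem_centralizer_iff.1 ht.2 y hy).symm
  have hYc : Y ≤ centralizer (Y : Set G) := by
    intro y hy
    rw [mem_centralizer_iff]
    intro z hz
    exact (mem_zc.1 hy).2.1 z (hYo hz)
  have hYn : T ≤ normalizer (Y : Set G) :=
    ((D.T_le_P i).trans (le_normalizer_o2 _)).trans (MinSimple.VModule.normalizer_le_normalizer_zc _)
  obtain ⟨A, hAT, hAY, hle⟩ := hB Y hVY (D.zc_o2_le i) hYn hYc (fun x hx => (mem_zc.1 hx).2.2)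
  have hoc : o2 (P i) ≤ centralizer (Y : Set G) := by
    intro t ht
    rw [mem_centralizer_iff]
    intro y hy
    exact ((mem_zc.1 hy).2.1 t ht).symm
  have h2 : (centralizer (Y : Set G)).relIndex A ≤ 2 := by
    refine rel_le_two fun x hx y hy hxn hyn => hoc ?_
    exact Phi.mul_mem_o2 D (hAT hx) (fun h => hxn (hoc h)) (hAT hy) (fun h => hyn (hoc h))
  obtain ⟨a, ha, hac⟩ := SetLike.not_le_iff_exists.1 hAY
  have hao : a ∉ o2 (P i) := fun h => hac (hoc h)
  -- the elements of `Y` centralised by `a`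
  have hYa : ∀ y ∈ Y, a * y = y * a → y ∈ zc T := by
    intro y hy hay
    refine mem_zc.2 ⟨hoT (hYo hy), fun t ht => ?_, (mem_zc.1 hy).2.2⟩
    by_cases hto : t ∈ o2 (P i)
    · exact (mem_zc.1 hy).2.1 t hto
    · have h3 := (mem_zc.1 hy).2.1 _ (Phi.mul_mem_o2 D (hAT ha) hao ht hto)
      have h4 : a * (t * y) = a * (y * t) := by
        calc a * (t * y) = a * t * y := by group
          _ = y * (a * t) := h3
          _ = a * y * t := by rw [hay]; group
          _ = a * (y * t) := by group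
      exact mul_left_cancel h4
  have h3 : (centralizer (A : Set G)).relIndex Y ≤ 2 := hle.trans h2
  -- conclusion
  have hxT : ∀ z ∈ zc T, ∃ a ∈ V i, z = a ∨ z = a * v j := by
    intro z hz
    have hc : v 0 * v 1 = v 1 * v 0 := D.comm_v 1 (D.v_mem_T 0)
    have h0 := fin2_cases hij
    rcases (D.zT z).1 hz with h | h | h | h
    · exact ⟨1, one_mem _, Or.inl h⟩
    · rcases h0 with ⟨rfl, rfl⟩ | ⟨rfl, rfl⟩
      · exact ⟨v 0, D.mem 0, Or.inl h⟩
      · exact ⟨1, one_mem _, Or.inr (by rw [h, one_mul])⟩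
    · rcases h0 with ⟨rfl, rfl⟩ | ⟨rfl, rfl⟩
      · exact ⟨1, one_mem _, Or.inr (by rw [h, one_mul])⟩
      · exact ⟨v 1, D.mem 1, Or.inl h⟩
    · rcases h0 with ⟨rfl, rfl⟩ | ⟨rfl, rfl⟩
      · exact ⟨v 0, D.mem 0, Or.inr h⟩
      · exact ⟨v 1, D.mem 1, Or.inr (by rw [h, hc])⟩
  by_contra hcon
  have hxn : x ∉ centralizer (A : Set G) := fun h =>
    hcon (hxT x (hYa x hx (mem_centralizer_iff.1 h a ha)))
  have hen : e ∉ centralizer (A : Set G) := by
    intro h
    have h5 := hYa e (hVY he) (mem_centralizer_iff.1 h a ha)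
    refine hev (D.eq_v he he1 fun t ht => ?_)
    rw [(mem_zc.1 h5).2.1 t ht, mul_inv_cancel_right]
  have hxen : x * e ∉ centralizer (A : Set G) := by
    intro h
    have h5 := hYa (x * e) (mul_mem hx (hVY he)) (mem_centralizer_iff.1 h a ha)
    obtain ⟨b, hb, hbe⟩ := hxT _ h5
    apply hcon
    have hvj : v j * e = e * v j := by
      have := D.comm_v j (D.V_le_T i he)
      exact this.symm
    rcases hbe with hbe | hbe
    · exact ⟨b * e⁻¹, mul_mem hb (inv_mem he), Or.inl (by rw [← hbe]; group)⟩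
    · refine ⟨b * e⁻¹, mul_mem hb (inv_mem he), Or.inr ?_⟩
      have h6 : x = b * v j * e⁻¹ := by rw [← hbe]; group
      rw [h6, mul_assoc, mul_assoc]
      congr 1
      calc v j * e⁻¹ = e⁻¹ * (e * v j) * e⁻¹ := by group
        _ = e⁻¹ * v j := by rw [← hvj]; group
  have h4 := three_le_rel hx (hVY he) hxn hen hxen
  omega

/-! ### `X_i` -/

theorem X_comm (i : Fin 2) : XX V v i ≤ centralizer (XX V v i : Set G) := D.WN_comm i

theorem X_sq (i : Fin 2) : ∀ x ∈ XX V v i, x ^ 2 = 1 := D.WN_sq i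

theorem X_eab (i : Fin 2) : IsElementaryAbelian 2 (XX V v i) := eab_iff.2 ⟨D.X_comm i, D.X_sq i⟩

theorem X_le_Q (i : Fin 2) : XX V v i ≤ QQ v i := sup_le (D.W_le_Q i) (D.N_le_Q i)

theorem X_le_T (i : Fin 2) : XX V v i ≤ T := (D.X_le_Q i).trans (D.Q_le_T i)

theorem C_le_N_X (i : Fin 2) : CC v i ≤ normalizer (XX V v i : Set G) := by
  intro c hc
  refine ChoiceBase.mem_normalizer_iff_cj.2 ?_
  change MulAut.conj c • (WU V v i ⊔ NU V v i) = _
  rw [Subgroup.smul_sup, NOThreeL.Pair.conj_eq_of_mem (D.C_le_N_W i hc),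
    NOThreeL.Pair.conj_eq_of_mem (D.C_le_N_N i hc)]

theorem zc_le_X (i : Fin 2) : zc T ≤ XX V v i :=
  (le_V _ _ : zc T ≤ EU T v i).trans (D.E_le_WN i)

theorem Q_le_C (i j : Fin 2) : QQ v i ≤ CC v j := (D.Q_le_T i).trans (D.T_le_C j)

theorem V_le_X (i : Fin 2) : V i ≤ XX V v i := (D.V_le_W i).trans le_sup_left

theorem N_le_X (i : Fin 2) : NU V v i ≤ XX V v i := le_sup_right

/-- `[X_i, Q_i] ≤ ⟨v_i⟩` -/
theorem comm_X_Q (i : Fin 2) : ∀ x ∈ XX V v i, ∀ q ∈ QQ v i, x * q * x⁻¹ * q⁻¹ ∈ zpowers (v i) := by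
  intro x hx q hq
  have h1 : NU V v i ≤ normalizer (WU V v i : Set G) := (D.N_le_C i i).trans (D.C_le_N_W i)
  obtain ⟨w, hw, n, hn, rfl⟩ := OM.KTwo.exists_mul_of_mem_sup h1 hx
  have h2 := D.comm_W_Q i w hw q hq
  have h3 : n * q = q * n := mem_centralizer_iff.1 (D.Q_le_cent_N i hq) n hn
  have e : w * n * q * (w * n)⁻¹ * q⁻¹ = w * q * w⁻¹ * q⁻¹ := by
    calc w * n * q * (w * n)⁻¹ * q⁻¹ = w * (n * q) * n⁻¹ * w⁻¹ * q⁻¹ := by group
      _ = w * q * w⁻¹ * q⁻¹ := by rw [h3]; group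
  rw [e]
  exact h2

/-- (NO) for `X_i` -/
theorem nob_X (hML : ML.Final.MLK.{u, u}) {i : Fin 2} (hK : IsKGroup (CC v i)) {B : Subgroup G}
    (hB : IsElementaryAbelian 2 B) (hBO : B ≤ o2 (centralizer (zc T : Set G))) : Nob (XX V v i) B := by
  refine nob_of (D.N_le_X i) (D.no_N hML hK hBO (eab_iff.1 hB).2) ?_
  have hBQ : B ⊓ centralizer (NU V v i : Set G) ≤ QQ v i := (inf_le_inf_right _ hBO).trans (D.f3 i)
  refine nob_two (c := v i) (Q := QQ v i) (D.v_sq i) (fun b hb => ?_) (fun x hx b hb => ?_)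
    (eab_mono hB inf_le_left) hBQ
  · exact mem_centralizer_singleton_iff.1 (D.Q_le_C i i hb)
  · have h1 := D.comm_X_Q i x hx b hb
    rcases D.mem_zpv h1 with h2 | h2
    · left
      have h3 : x * b = b * x := by
        calc x * b = (x * b * x⁻¹ * b⁻¹) * (b * x) := by group
          _ = b * x := by rw [h2, one_mul]
      rw [← h3]; group
    · right
      have h3 : x * b = v i * (b * x) := by
        calc x * b = (x * b * x⁻¹ * b⁻¹) * (b * x) := by group
          _ = v i * (b * x) := by rw [h2]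
      have h4 : b * x * b⁻¹ = v i * x := by
        calc b * x * b⁻¹ = v i * (v i * (b * x)) * b⁻¹ := by rw [← mul_assoc (v i) (v i), D.v_sq i, one_mul]
          _ = v i * (x * b) * b⁻¹ := by rw [h3]
          _ = v i * x := by group
      rw [h4]
      have h5 : x * v i = v i * x := by
        exact mem_centralizer_singleton_iff.1 ((D.X_le_T i).trans (D.T_le_C i) hx)
      exact h5.symm

end Fr

end Cfsg.Agent.Omega.TC

end

section


/-!
# CARD #18791, THEOREM R (helper691 #21425 (0)): the canonical vector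

`Can T V v i n` : `n ∈ N_i ∖ Ω₁Z(T)` is fixed modulo `v i` by `N_{C_i}(V i)`, and `v i ∈ N_i`.

* `exists_can` : (0.1) `R` normal in `C_i`, `[V i, R] ≤ N_i`, `R` moves `N_i`, `V i ≰ N_i` ⇒ a canonical vector;
* `Can.mv` : (0.2) `[n, C_T(V i)] = ⟨v i⟩`;
* `Can.indep` : (0.3) for `p, q ∈ P i` with `v_i^p ≠ v_i^q` some `t ∈ C_T(V i)` moves `n^p` and centralises `n^q`;
* `Can.mem_Q`, `Can.mem_Qj`, `Can.fl_mem`, `Can.fl_comm` : (0.4) the vectors `n^g`, `v i ∈ V i ^ g`, lie in `Q_i`,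
  centralise `W_i` and commute.
-/

set_option autoImplicit false
set_option linter.unusedSectionVars false

namespace Cfsg.Agent.Omega.TC.R

open Subgroup Cfsg Cfsg.Agent.ZN Cfsg.Agent.Omega.MinPar
open Cfsg.Agent.Omega.OM.KTwo (CC QQ WU NU EU FF ne_add_one eq_add_one add_one_add_one le_normalizer_V le_V)
open Cfsg.Agent.Omega.NoFF.Basic (conj_conj mem_conj conj_le_iff conj_le_centralizer comm_symm comm_mono
  Z_le_V V_le conj_V_mul)
open Cfsg.Agent.Omega.TC.ThmI (rel_le_two two_le_rel three_le_rel)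
open Cfsg.Agent.ZN.ChoiceSit (syl_not_dvd)
open Cfsg.Agent.Omega.NO3S.EThree.ExactA (eab_iff eab_mono)
open scoped Pointwise

universe u

variable {G : Type u} [Group G] [Finite G] {T : Subgroup G} {V P : Fin 2 → Subgroup G} {v : Fin 2 → G}

/-- **the canonical vector** -/
structure Can (T : Subgroup G) (V : Fin 2 → Subgroup G) (v : Fin 2 → G) (i : Fin 2) (n : G) : Prop where
  nN : n ∈ NU V v i
  rad : v i ∈ NU V v i
  nz : n ∉ zc T
  fix : ∀ g ∈ CC v i, g ∈ normalizer (V i : Set G) → g * n * g⁻¹ * n⁻¹ ∈ zpowers (v i)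

theorem mem_zp_of_sq {r x : G} (hr : r * r = 1) (hx : x ∈ zpowers r) : x = 1 ∨ x = r := by
  obtain ⟨k, rfl⟩ := mem_zpowers_iff.1 hx
  rcases Int.even_or_odd' k with ⟨l, rfl | rfl⟩
  · left; rw [zpow_mul, zpow_two, hr, one_zpow]
  · right; rw [zpow_add, zpow_mul, zpow_two, hr, one_zpow, one_mul, zpow_one]

section fr

variable (D : Fr T V P v)

include D

theorem cv {i : Fin 2} {c z : G} (hc : c ∈ CC v i) (hz : z ∈ zpowers (v i)) : c * z * c⁻¹ = z := by
  rcases D.mem_zpv hz with h | h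
  · rw [h]; group
  · rw [h]; exact D.conj_v i hc

/-- `V i ≤ C(V i)` etc. -/
theorem cent_V_le (i : Fin 2) : centralizer (V i : Set G) ≤ CC v i := by
  intro g hg
  rw [mem_centralizer_singleton_iff]
  exact (mem_centralizer_iff.1 hg _ (D.mem i)).symm

/-- fixed vectors of `zc T` modulo `v i` -/
theorem zc_fix {i j : Fin 2} (hij : i ≠ j) {m : G} (hm : m ∈ zc T)
    (hf : ∀ g ∈ P j, g ∈ centralizer (V i : Set G) → m⁻¹ * g * m * g⁻¹ ∈ zpowers (v i)) : m ∈ zpowers (v i) := by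
  by_contra hmv
  have h2 : ∃ d ∈ zpowers (v i), m = v j * d := by
    have hc : v 0 * v 1 = v 1 * v 0 := D.comm_v 1 (D.v_mem_T 0)
    have h0 := fin2_cases hij
    rcases (D.zT m).1 hm with h | h | h | h
    · exact absurd (h ▸ one_mem _) hmv
    · rcases h0 with ⟨rfl, rfl⟩ | ⟨rfl, rfl⟩
      · rw [h] at hmv; exact absurd (mem_zpowers _) hmv
      · exact ⟨1, one_mem _, by rw [h, mul_one]⟩
    · rcases h0 with ⟨rfl, rfl⟩ | ⟨rfl, rfl⟩
      · exact ⟨1, one_mem _, by rw [h, mul_one]⟩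
      · rw [h] at hmv; exact absurd (mem_zpowers _) hmv
    · rcases h0 with ⟨rfl, rfl⟩ | ⟨rfl, rfl⟩
      · exact ⟨v 0, mem_zpowers _, by rw [h, hc]⟩
      · exact ⟨v 1, mem_zpowers _, h⟩
  obtain ⟨d, hd, hyd⟩ := h2
  obtain ⟨w, hw, hw1, hwv⟩ := D.exists_ne_v j
  obtain ⟨l, hlP, hlC, hlw⟩ := D.tr hij.symm hw hw1
  have h3 := hf l hlP hlC
  have hlC' : l ∈ CC v i := cent_V_le D i hlC
  have h4 : m⁻¹ * l * m * l⁻¹ = d⁻¹ * ((v j)⁻¹ * w) * d := by
    calc m⁻¹ * l * m * l⁻¹ = (v j * d)⁻¹ * (l * v j * l⁻¹) * (l * d * l⁻¹) := by rw [hyd]; group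
      _ = d⁻¹ * ((v j)⁻¹ * w) * d := by rw [hlw, cv D hlC' hd]; group
  rw [h4] at h3
  have h5 : (v j)⁻¹ * w ∈ zpowers (v i) := by
    have := mul_mem (mul_mem hd h3) (inv_mem hd)
    have e5 : d * (d⁻¹ * ((v j)⁻¹ * w) * d) * d⁻¹ = (v j)⁻¹ * w := by group
    rwa [e5] at this
  have h6 : (v j)⁻¹ * w ∈ V j := (V j).mul_mem ((V j).inv_mem (D.mem _)) hw
  have h7 : (v j)⁻¹ * w ≠ 1 := fun h => hwv (inv_mul_eq_one.1 h).symm
  rcases D.mem_zpv h5 with h8 | h8
  · exact h7 h8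
  · exact D.v_notin hij (h8 ▸ h6)

/-- **(0.1)** -/
theorem exists_can {i : Fin 2} {R : Subgroup G} (hR : R ≤ CC v i)
    (hRn : CC v i ≤ normalizer (R : Set G)) (hRX : ∀ r ∈ R, ∀ x ∈ V i, r * x * r⁻¹ * x⁻¹ ∈ NU V v i)
    (hm : ¬ R ≤ centralizer (NU V v i : Set G)) : ∃ n, Can T V v i n := by
  obtain ⟨e, he, he1, hev⟩ := D.exists_ne_v i
  have hij := ne_add_one i
  have hCE := D.C_le_N_E i
  have hCZ := D.C_le_N_Z i
  have hEC : EU T v i ≤ CC v i := ((D.E_le_Q i).trans (D.Q_le_T i)).trans (D.T_le_C i)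
  have hvE : zpowers (v i) ≤ EU T v i := zpowers_le.2 (D.v_mem_E i i)
  have heC : e ∈ CC v i := D.T_le_C i (D.V_le_T i he)
  have hconj : ∀ c ∈ CC v i, ∀ x ∈ EU T v i, c * x * c⁻¹ ∈ EU T v i := fun c hc x hx =>
    (mem_normalizer_iff.1 (hCE hc) x).1 hx
  let H : Subgroup G :=
    { carrier := {h | h ∈ CC v i ∧ e⁻¹ * h * e * h⁻¹ ∈ EU T v i}
      one_mem' := ⟨one_mem _, by simp⟩
      mul_mem' := by
        rintro a b ⟨ha, ha'⟩ ⟨hb, hb'⟩
        refine ⟨mul_mem ha hb, ?_⟩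
        have e1 : e⁻¹ * (a * b) * e * (a * b)⁻¹ = (e⁻¹ * a * e * a⁻¹) * (a * (e⁻¹ * b * e * b⁻¹) * a⁻¹) := by group
        rw [e1]
        exact mul_mem ha' (hconj a ha _ hb')
      inv_mem' := by
        rintro a ⟨ha, ha'⟩
        refine ⟨inv_mem ha, ?_⟩
        have h1 := hconj a⁻¹ (inv_mem ha) _ (inv_mem ha')
        have e1 : a⁻¹ * (e⁻¹ * a * e * a⁻¹)⁻¹ * a⁻¹⁻¹ = e⁻¹ * a⁻¹ * e * a⁻¹⁻¹ := by group
        rwa [e1] at h1 }
  have hHC : H ≤ CC v i := fun h hh => hh.1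
  have hNH : ∀ g ∈ CC v i, g ∈ normalizer (V i : Set G) → g ∈ H := fun g hg hgV =>
    ⟨hg, hvE (D.comm_VN hg hgV he)⟩
  have hTH : T ≤ H := fun t ht => hNH t (D.T_le_C i ht) (D.T_le_N i ht)
  have hodd : Odd (T.relIndex H) := by
    rw [← Nat.not_even_iff_odd, even_iff_two_dvd]
    intro h2
    refine syl_not_dvd (D.syl i) ?_
    rw [← relIndex_mul_relIndex _ _ _ hTH hHC]
    exact h2.mul_right _
  obtain ⟨y, hy, hyH⟩ := Cfsg.Agent.Omega.BTwo.Avg.avg (Y := EU T v i) (D := zpowers (v i)) (c := e) hTH hodd hvE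
    (fun x hx z hz => hconj x (hHC hx) z hz) (fun x hx z hz => (mem_normalizer_iff.1 (hCZ (hHC hx)) z).1 hz)
    (fun x hx z hz => (mem_normalizer_iff.1 (hCZ (hEC hx)) z).1 hz)
    (fun y hy => by rw [← pow_two, D.E_sq i y hy]; exact one_mem _) (fun x hx => hx.2)
    (fun t ht => D.comm_VN (D.T_le_C i ht) (D.T_le_N i ht) he)
  obtain ⟨m, hmN, w, hw, hymw⟩ := D.mem_E hy
  have hmC : m ∈ CC v i := D.N_le_C i i hmN
  have hyC : y ∈ CC v i := hEC hy
  -- `m` is fixed modulo `v i`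
  have hmfix : ∀ g ∈ CC v i, g ∈ normalizer (V i : Set G) → m⁻¹ * g * m * g⁻¹ ∈ zpowers (v i) := by
    intro g hg hgV
    have h1 := hyH g (hNH g hg hgV)
    have h2 := D.comm_VN hg hgV he
    have h3 : (e * y)⁻¹ * g * (e * y) * g⁻¹ = (y⁻¹ * (e⁻¹ * g * e * g⁻¹) * y⁻¹⁻¹) * (y⁻¹ * g * y * g⁻¹) := by group
    rw [h3, cv D (inv_mem hyC) h2] at h1
    have h4 := mul_mem (inv_mem h2) h1
    rw [inv_mul_cancel_left] at h4
    have h5 : y⁻¹ * g * y * g⁻¹ = (w⁻¹ * (m⁻¹ * g * m * g⁻¹) * w) * (w⁻¹ * (g * w * g⁻¹)) := by rw [hymw]; group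
    rw [cv D hg hw, inv_mul_cancel, mul_one] at h5
    rw [h5] at h4
    have h6 := mul_mem (mul_mem hw h4) (inv_mem hw)
    have e6 : w * (w⁻¹ * (m⁻¹ * g * m * g⁻¹) * w) * w⁻¹ = m⁻¹ * g * m * g⁻¹ := by group
    rwa [e6] at h6
  by_cases hmz : m ∈ zc T
  · exfalso
    have hmv : m ∈ zpowers (v i) := by
      refine zc_fix D hij hmz fun g hg hgV => ?_
      exact hmfix g (cent_V_le D i hgV) (centralizer_le_normalizer _ hgV)
    have hyv : y ∈ zpowers (v i) := by rw [hymw]; exact mul_mem hmv hw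
    -- `R ≤ N(V i)`
    have hle : ∀ r ∈ R, ∀ x ∈ V i, r * x * r⁻¹ ∈ V i := by
      have hRe : ∀ r ∈ R, r * e * r⁻¹ ∈ V i := by
        intro r hr
        have hrC := hR hr
        have h0 : e⁻¹ * r * e * r⁻¹ ∈ EU T v i := by
          have h1 := D.N_le_E i (hRX r hr e he)
          have h2 := hconj e⁻¹ (inv_mem heC) _ h1
          have e2 : e⁻¹ * (r * e * r⁻¹ * e⁻¹) * e⁻¹⁻¹ = e⁻¹ * r * e * r⁻¹ := by group
          rwa [e2] at h2
        have h1 := hyH r ⟨hrC, h0⟩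
        have h3 : (e * y)⁻¹ * r * (e * y) * r⁻¹ = y⁻¹ * (e⁻¹ * (r * e * r⁻¹)) * (r * y * r⁻¹) := by group
        rw [h3, cv D hrC hyv] at h1
        have h4 := mul_mem (mul_mem hyv h1) (inv_mem hyv)
        have e4 : y * (y⁻¹ * (e⁻¹ * (r * e * r⁻¹)) * y) * y⁻¹ = e⁻¹ * (r * e * r⁻¹) := by group
        rw [e4] at h4
        have h5 := mul_mem he ((zpowers_le.2 (D.mem i)) h4)
        rwa [mul_inv_cancel_left] at h5
      intro r hr x hx
      by_cases hx1 : x = 1
      · rw [hx1, mul_one, mul_inv_cancel]; exact one_mem _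
      have hrv := D.conj_v i (hR hr)
      rcases D.eq_of_V he he1 (D.mem i) (D.ne i) hev hx hx1 with h | h | h
      · rw [h]; exact hRe r hr
      · rw [h, hrv]; exact D.mem i
      · rw [h]
        have e1 : r * (e * v i) * r⁻¹ = (r * e * r⁻¹) * (r * v i * r⁻¹) := by group
        rw [e1, hrv]
        exact mul_mem (hRe r hr) (D.mem i)
    have hRN : R ≤ normalizer (V i : Set G) := by
      intro r hr
      rw [mem_normalizer_iff]
      intro x
      refine ⟨fun hx => hle r hr x hx, fun hx => ?_⟩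
      have h2 := hle r⁻¹ (inv_mem hr) _ hx
      have e2 : r⁻¹ * (r * x * r⁻¹) * r⁻¹⁻¹ = x := by group
      rwa [e2] at h2
    refine D.comp i fun c hc => ?_
    obtain ⟨x, hx, d, hd, e2⟩ := D.lem0 hR hRn hm c⁻¹ (inv_mem hc)
    refine ⟨d⁻¹, inv_mem hd, x⁻¹, inv_mem (hRN hx), ?_⟩
    rw [← mul_inv_rev, ← e2, inv_inv]
  · refine ⟨m, hmN, ?_, hmz, fun g hg hgV => ?_⟩
    · by_contra hrad
      apply hmz
      rw [ZN.mem_zc]
      refine ⟨D.N_le_T i hmN, fun t ht => ?_, D.N_sq i m hmN⟩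
      have h1 := hmfix t (D.T_le_C i ht) (D.T_le_N i ht)
      have h2 : m⁻¹ * t * m * t⁻¹ ∈ NU V v i := by
        have e2 : m⁻¹ * t * m * t⁻¹ = m⁻¹ * (t * m * t⁻¹) := by group
        rw [e2]
        exact mul_mem (inv_mem hmN) ((mem_normalizer_iff.1 (D.C_le_N_N i (D.T_le_C i ht)) m).1 hmN)
      rcases D.mem_zpv h1 with h3 | h3
      · calc t * m = m * (m⁻¹ * t * m * t⁻¹) * t := by group
          _ = m * t := by rw [h3, mul_one]
      · exact absurd (h3 ▸ h2) hrad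
    · have h1 := hmfix g hg hgV
      have h2 := cv D hmC h1
      have e2 : m * (m⁻¹ * g * m * g⁻¹) * m⁻¹ = g * m * g⁻¹ * m⁻¹ := by group
      rw [← e2, h2]
      exact h1

/-- 2-transitivity of `P i` on `V i#` -/
theorem tr_two {i : Fin 2} {x y x' y' : G} (hx : x ∈ V i) (hy : y ∈ V i) (hx' : x' ∈ V i) (hy' : y' ∈ V i)
    (hx1 : x ≠ 1) (hy1 : y ≠ 1) (hx1' : x' ≠ 1) (hy1' : y' ≠ 1) (hxy : x ≠ y) (hxy' : x' ≠ y') :
    ∃ r ∈ P i, r * x * r⁻¹ = x' ∧ r * y * r⁻¹ = y' := by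
  obtain ⟨l, hl, -, hlx⟩ := D.tr (ne_add_one i) hx hx1
  obtain ⟨l', hl', -, hlx'⟩ := D.tr (ne_add_one i) hx' hx1'
  have hu : l⁻¹ * y * l ∈ V i := (mem_normalizer_iff''.1 (D.PN i i hl) y).1 hy
  have hu' : l'⁻¹ * y' * l' ∈ V i := (mem_normalizer_iff''.1 (D.PN i i hl') y').1 hy'
  have hu1 : l⁻¹ * y * l ≠ 1 := by
    intro h
    apply hy1
    have := congrArg (fun t => l * t * l⁻¹) h
    simpa [mul_assoc] using this
  have hu1' : l'⁻¹ * y' * l' ≠ 1 := by
    intro h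
    apply hy1'
    have := congrArg (fun t => l' * t * l'⁻¹) h
    simpa [mul_assoc] using this
  have huv : l⁻¹ * y * l ≠ v i := by
    intro h
    apply hxy
    rw [← hlx, ← h]; group
  have huv' : l'⁻¹ * y' * l' ≠ v i := by
    intro h
    apply hxy'
    rw [← hlx', ← h]; group
  obtain ⟨t, ht, htu⟩ : ∃ t ∈ T, t * (l⁻¹ * y * l) * t⁻¹ = l'⁻¹ * y' * l' := by
    rcases D.eq_of_V hu hu1 (D.mem i) (D.ne i) huv hu' hu1' with h | h | h
    · exact ⟨1, one_mem _, by rw [h]; group⟩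
    · exact absurd h huv'
    · obtain ⟨t, ht, htu⟩ := D.exists_swap hu hu1 huv
      exact ⟨t, ht, by rw [htu, h]⟩
  refine ⟨l' * t * l⁻¹, mul_mem (mul_mem hl' (D.T_le_P i ht)) (inv_mem hl), ?_, ?_⟩
  · calc l' * t * l⁻¹ * x * (l' * t * l⁻¹)⁻¹ = l' * (t * (l⁻¹ * (l * v i * l⁻¹) * l) * t⁻¹) * l'⁻¹ := by
          rw [hlx]; group
      _ = l' * (t * v i * t⁻¹) * l'⁻¹ := by group
      _ = x' := by rw [D.cen i ht, hlx']
  · calc l' * t * l⁻¹ * y * (l' * t * l⁻¹)⁻¹ = l' * (t * (l⁻¹ * y * l) * t⁻¹) * l'⁻¹ := by group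
      _ = y' := by rw [htu]; group

/-- elements of `N_i ∩ V i` -/
theorem mem_N_V {i : Fin 2} (hV : ¬ V i ≤ NU V v i) (hr : v i ∈ NU V v i) {a : G} (ha : a ∈ V i)
    (haN : a ∈ NU V v i) : a = 1 ∨ a = v i := by
  by_contra hcon
  push Not at hcon
  apply hV
  intro x hx
  by_cases hx1 : x = 1
  · rw [hx1]; exact one_mem _
  rcases D.eq_of_V ha hcon.1 (D.mem i) (D.ne i) hcon.2 hx hx1 with h | h | h
  · rw [h]; exact haN
  · rw [h]; exact hr
  · rw [h]; exact mul_mem haN hr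

/-- commutators with elements of `C(V i)` -/
theorem Can.chi {i : Fin 2} {n : G} (c : Can T V v i n) (p : G) {x : G}
    (hx : x ∈ centralizer ((MulAut.conj p • V i : Subgroup G) : Set G)) :
    x * (p * n * p⁻¹) * x⁻¹ = p * n * p⁻¹ ∨ x * (p * n * p⁻¹) * x⁻¹ = p * n * p⁻¹ * (p * v i * p⁻¹) := by
  have h1 : p⁻¹ * x * p ∈ centralizer (V i : Set G) := by
    rw [mem_centralizer_iff]
    intro y hy
    have h2 : p * y * p⁻¹ ∈ MulAut.conj p • V i := ⟨y, hy, rfl⟩
    have h3 := mem_centralizer_iff.1 hx _ h2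
    calc y * (p⁻¹ * x * p) = p⁻¹ * (p * y * p⁻¹ * x) * p := by group
      _ = p⁻¹ * x * p * y := by rw [h3]; group
  have h2 := c.fix _ (cent_V_le D i h1) (centralizer_le_normalizer _ h1)
  rcases D.mem_zpv h2 with h3 | h3
  · left
    calc x * (p * n * p⁻¹) * x⁻¹ = p * (p⁻¹ * x * p * n * (p⁻¹ * x * p)⁻¹ * n⁻¹) * n * p⁻¹ := by group
      _ = p * n * p⁻¹ := by rw [h3]; group
  · right
    have h4 : v i * n = n * v i := (mem_centralizer_singleton_iff.1 (D.N_le_C i i c.nN)).symm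
    calc x * (p * n * p⁻¹) * x⁻¹ = p * (p⁻¹ * x * p * n * (p⁻¹ * x * p)⁻¹ * n⁻¹) * n * p⁻¹ := by group
      _ = p * (v i * n) * p⁻¹ := by rw [h3]; group
      _ = p * n * p⁻¹ * (p * v i * p⁻¹) := by rw [h4]; group

/-- the same point on the same line -/
theorem Can.same {i : Fin 2} {n : G} (c : Can T V v i n) {p q : G} (h1 : q⁻¹ * p ∈ CC v i)
    (h2 : q⁻¹ * p ∈ normalizer (V i : Set G)) :
    p * n * p⁻¹ = q * n * q⁻¹ ∨ p * n * p⁻¹ = q * n * q⁻¹ * (q * v i * q⁻¹) := by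
  have h4 : v i * n = n * v i := (mem_centralizer_singleton_iff.1 (D.N_le_C i i c.nN)).symm
  rcases D.mem_zpv (c.fix _ h1 h2) with h3 | h3
  · left
    calc p * n * p⁻¹ = q * (q⁻¹ * p * n * (q⁻¹ * p)⁻¹ * n⁻¹) * n * q⁻¹ := by group
      _ = q * n * q⁻¹ := by rw [h3]; group
  · right
    calc p * n * p⁻¹ = q * (q⁻¹ * p * n * (q⁻¹ * p)⁻¹ * n⁻¹) * n * q⁻¹ := by group
      _ = q * (v i * n) * q⁻¹ := by rw [h3]; group
      _ = q * n * q⁻¹ * (q * v i * q⁻¹) := by rw [h4]; group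

theorem Can.sq {i : Fin 2} {n : G} (c : Can T V v i n) : n * n = 1 := by
  rw [← pow_two]; exact D.N_sq i n c.nN

/-- `n` commutes with `N_{i+1}` -/
theorem Can.comm_Nj (hML : ML.Final.MLK.{u, u}) (hK : ∀ i, IsKGroup (CC v i)) {i : Fin 2} {n : G}
    (c : Can T V v i n) : n ∈ centralizer (NU V v (i + 1) : Set G) := by
  have hV : NU V v (i + 1) ≤ centralizer (V i : Set G) := by
    have h1 := D.V_le_N (i + 1)
    rw [add_one_add_one] at h1
    exact (D.N_comm (i + 1)).trans (centralizer_le h1)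
  have hvn : v (i + 1) ∉ zpowers (v i) := by
    intro h
    rcases D.mem_zpv h with h1 | h1
    · exact D.ne _ h1
    · exact D.v_notin (ne_add_one i) (h1 ▸ D.mem (i + 1))
  refine D.lemQ hML hK (i := i) (Y := zpowers (v i)) (M := zpowers n) (D.C_le_N_Z i) (zpowers_le.2 c.rad)
    hvn (zpowers_le.2 c.nN) (fun m hm a ha => ?_) (mem_zpowers n)
  rcases mem_zp_of_sq (c.sq D) hm with h | h
  · rw [h]; simp
  · rw [h]
    exact c.fix a (cent_V_le D i (hV ha)) (centralizer_le_normalizer _ (hV ha))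

theorem Can.mem_Qj (hML : ML.Final.MLK.{u, u}) (hK : ∀ i, IsKGroup (CC v i)) {i : Fin 2} {n : G}
    (c : Can T V v i n) {p : G} (hp : p ∈ P i) : p * n * p⁻¹ ∈ QQ v (i + 1) := by
  have h1 : n ∈ QQ v (i + 1) := D.f3 (i + 1) ⟨D.N_le_oD i c.nN, c.comm_Nj D hML hK⟩
  exact (mem_normalizer_iff.1 (ZN.le_normalizer_o2 _ (D.PC i (i + 1) (ne_add_one i) hp)) n).1 h1

/-- **(0.2)** -/
theorem Can.mv {i : Fin 2} (hB : WOff T V i) (hV : ¬ V i ≤ NU V v i) {n : G} (c : Can T V v i n) :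
    ∃ s ∈ o2 (P i), s * n * s⁻¹ = n * v i := by
  by_contra hcon
  push Not at hcon
  have hij := ne_add_one i
  have ho : o2 (P i) = T ⊓ centralizer (V i : Set G) := Phi.o2_P D i
  apply c.nz
  have h1 : n ∈ zc (o2 (P i)) := by
    rw [ZN.mem_zc]
    refine ⟨Phi.N_le_o2 D i c.nN, fun t ht => ?_, D.N_sq i n c.nN⟩
    have ht' := ht
    rw [ho] at ht'
    have h2 := c.chi D 1 (x := t) (by rw [map_one, one_smul]; exact ht'.2)
    simp only [one_mul, inv_one, mul_one] at h2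
    rcases h2 with h2 | h2
    · calc t * n = t * n * t⁻¹ * t := by group
        _ = n * t := by rw [h2]
    · exact absurd h2 (hcon t ht)
  obtain ⟨a, ha, h2⟩ := D.mem_zc_o2 hB hij h1
  have hvj : v (i + 1) ∈ NU V v i := D.mem_N i
  have haN : a ∈ NU V v i := by
    rcases h2 with h2 | h2
    · rw [← h2]; exact c.nN
    · have : a = n * (v (i + 1))⁻¹ := by rw [h2]; group
      rw [this]; exact mul_mem c.nN (inv_mem hvj)
  have haz : a ∈ zc T := by
    rcases mem_N_V D hV c.rad ha haN with h | h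
    · rw [h]; exact one_mem _
    · rw [h]; exact D.v_mem_zc i
  rcases h2 with h2 | h2
  · rw [h2]; exact haz
  · rw [h2]; exact mul_mem haz (D.v_mem_zc _)

/-- `C_T(V i)`-elements and `n^p`, `p ∈ N(V i)` -/
theorem Can.chi_o {i : Fin 2} {n : G} (c : Can T V v i n) {p : G} (hp : p ∈ P i) {t : G} (ht : t ∈ o2 (P i)) :
    t * (p * n * p⁻¹) * t⁻¹ = p * n * p⁻¹ ∨ t * (p * n * p⁻¹) * t⁻¹ = p * n * p⁻¹ * (p * v i * p⁻¹) := by
  apply c.chi D p
  rw [NOThreeL.Pair.conj_eq_of_mem (D.PN i i hp)]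
  rw [Phi.o2_P D i] at ht
  exact ht.2

theorem mem_V_conj {i : Fin 2} {p : G} (hp : p ∈ P i) : p * v i * p⁻¹ ∈ V i :=
  (mem_normalizer_iff.1 (D.PN i i hp) _).1 (D.mem i)

theorem o2_comm {i : Fin 2} {t x : G} (ht : t ∈ o2 (P i)) (hx : x ∈ V i) : t * x * t⁻¹ = x := by
  rw [Phi.o2_P D i] at ht
  rw [← mem_centralizer_iff.1 ht.2 x hx, mul_inv_cancel_right]

theorem o2_conj {i : Fin 2} {p t : G} (hp : p ∈ P i) (ht : t ∈ o2 (P i)) : p * t * p⁻¹ ∈ o2 (P i) :=
  (mem_normalizer_iff.1 (ZN.le_normalizer_o2 _ hp) t).1 ht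

theorem o2_conj' {i : Fin 2} {p t : G} (hp : p ∈ P i) (ht : t ∈ o2 (P i)) : p⁻¹ * t * p ∈ o2 (P i) := by
  have := o2_conj D (inv_mem hp) ht
  rwa [inv_inv] at this

/-- fixing `n^p` depends only on the point -/
theorem Can.fix_congr {i : Fin 2} {n : G} (c : Can T V v i n) {p q : G} (hp : p ∈ P i) (hq : q ∈ P i)
    (h : p * v i * p⁻¹ = q * v i * q⁻¹) {t : G} (ht : t ∈ o2 (P i)) (h1 : t * (p * n * p⁻¹) * t⁻¹ = p * n * p⁻¹) :
    t * (q * n * q⁻¹) * t⁻¹ = q * n * q⁻¹ := by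
  have h2 : q⁻¹ * p ∈ CC v i := by
    rw [mem_centralizer_singleton_iff]
    calc q⁻¹ * p * v i = q⁻¹ * (p * v i * p⁻¹) * p := by group
      _ = v i * (q⁻¹ * p) := by rw [h]; group
  have hqv := o2_comm D ht (mem_V_conj D hq)
  rcases c.same D h2 (mul_mem (inv_mem (D.PN i i hq)) (D.PN i i hp)) with h3 | h3
  · rw [← h3]; exact h1
  · rw [h3] at h1
    have e : t * (q * n * q⁻¹ * (q * v i * q⁻¹)) * t⁻¹ = t * (q * n * q⁻¹) * t⁻¹ * (t * (q * v i * q⁻¹) * t⁻¹) := by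
      group
    rw [e, hqv] at h1
    exact mul_right_cancel h1

/-- **(0.3)** -/
theorem Can.indep (hML : ML.Final.MLK.{u, u}) (hK : ∀ i, IsKGroup (CC v i)) {i : Fin 2} (hB : WOff T V i)
    (hV : ¬ V i ≤ NU V v i) {n : G} (c : Can T V v i n) {p q : G}
    (hp : p ∈ P i) (hq : q ∈ P i) (hpq : p * v i * p⁻¹ ≠ q * v i * q⁻¹) :
    ∃ t ∈ o2 (P i), t * (p * n * p⁻¹) * t⁻¹ ≠ p * n * p⁻¹ ∧ t * (q * n * q⁻¹) * t⁻¹ = q * n * q⁻¹ := by
  by_contra hcon
  push Not at hcon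
  have hcon0 : ∀ t ∈ o2 (P i), t * (q * n * q⁻¹) * t⁻¹ = q * n * q⁻¹ → t * (p * n * p⁻¹) * t⁻¹ = p * n * p⁻¹ := by
    intro t ht h1
    by_contra h2
    exact hcon t ht h2 h1
  clear hcon
  have ho : o2 (P i) = T ⊓ centralizer (V i : Set G) := Phi.o2_P D i
  have hpt1 : ∀ g : G, g * v i * g⁻¹ ≠ 1 := fun g h => D.ne i (conj_eq_one_iff.1 h)
  -- for all pairs
  have hall : ∀ p' ∈ P i, ∀ q' ∈ P i, ∀ t ∈ o2 (P i), t * (q' * n * q'⁻¹) * t⁻¹ = q' * n * q'⁻¹ →
      t * (p' * n * p'⁻¹) * t⁻¹ = p' * n * p'⁻¹ := by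
    intro p' hp' q' hq' t ht h1
    by_cases hpq' : p' * v i * p'⁻¹ = q' * v i * q'⁻¹
    · exact c.fix_congr D hq' hp' hpq'.symm ht h1
    obtain ⟨r, hr, hr1, hr2⟩ := tr_two D (mem_V_conj D hp) (mem_V_conj D hq) (mem_V_conj D hp') (mem_V_conj D hq')
      (hpt1 _) (hpt1 _) (hpt1 _) (hpt1 _) hpq hpq'
    have ht' := o2_conj' D hr ht
    have e1 : r⁻¹ * q' * v i * (r⁻¹ * q')⁻¹ = q * v i * q⁻¹ := by
      calc r⁻¹ * q' * v i * (r⁻¹ * q')⁻¹ = r⁻¹ * (q' * v i * q'⁻¹) * r := by group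
        _ = q * v i * q⁻¹ := by rw [← hr2]; group
    have h2 : r⁻¹ * t * r * (r⁻¹ * q' * n * (r⁻¹ * q')⁻¹) * (r⁻¹ * t * r)⁻¹ = r⁻¹ * q' * n * (r⁻¹ * q')⁻¹ := by
      calc r⁻¹ * t * r * (r⁻¹ * q' * n * (r⁻¹ * q')⁻¹) * (r⁻¹ * t * r)⁻¹
          = r⁻¹ * (t * (q' * n * q'⁻¹) * t⁻¹) * r := by group
        _ = r⁻¹ * q' * n * (r⁻¹ * q')⁻¹ := by rw [h1]; group
    have h3 := hcon0 _ ht' (c.fix_congr D (mul_mem (inv_mem hr) hq') hq e1 ht' h2)
    have e2 : r * p * v i * (r * p)⁻¹ = p' * v i * p'⁻¹ := by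
      calc r * p * v i * (r * p)⁻¹ = r * (p * v i * p⁻¹) * r⁻¹ := by group
        _ = _ := hr1
    refine c.fix_congr D (mul_mem hr hp) hp' e2 ht ?_
    calc t * (r * p * n * (r * p)⁻¹) * t⁻¹ = r * (r⁻¹ * t * r * (p * n * p⁻¹) * (r⁻¹ * t * r)⁻¹) * r⁻¹ := by group
      _ = r * p * n * (r * p)⁻¹ := by rw [h3]; group
  have hmoves : ∀ t ∈ o2 (P i), t * n * t⁻¹ ≠ n → ∀ p' ∈ P i,
      t * (p' * n * p'⁻¹) * t⁻¹ = p' * n * p'⁻¹ * (p' * v i * p'⁻¹) := by
    intro t ht h1 p' hp'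
    refine (c.chi_o D hp' ht).resolve_left fun h2 => h1 ?_
    have h3 := hall 1 (one_mem _) p' hp' t ht h2
    simpa using h3
  -- the group `F`
  set F : Subgroup G := NoFF.Basic.V (zpowers n) (P i) ⊔ V i with hF
  have hnF : ∀ p' ∈ P i, p' * n * p'⁻¹ ∈ F := fun p' hp' =>
    mem_sup_left (Z_le_V hp' ⟨n, mem_zpowers n, rfl⟩)
  have hVF : V i ≤ F := le_sup_right
  have hPF : P i ≤ normalizer (F : Set G) := by
    intro g hg
    refine ChoiceBase.mem_normalizer_iff_cj.2 ?_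
    change MulAut.conj g • (NoFF.Basic.V (zpowers n) (P i) ⊔ V i) = _
    rw [Subgroup.smul_sup, NOThreeL.Pair.conj_eq_of_mem (le_normalizer_V (zpowers n) (P i) hg),
      NOThreeL.Pair.conj_eq_of_mem (D.PN i i hg)]
  have hno : n ∈ o2 (P i) := Phi.N_le_o2 D i c.nN
  have hVo : V i ≤ o2 (P i) := by
    rw [ho]; exact le_inf (D.V_le_T i) fun x hx => mem_centralizer_iff.2 fun y hy => D.V_comm hy hx
  have hpow : ∀ x ∈ zpowers n, x = 1 ∨ x = n := by
    intro x hx
    obtain ⟨k, rfl⟩ := mem_zpowers_iff.1 hx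
    have h2 : n ^ (2 : ℤ) = 1 := by
      have := D.N_sq i n c.nN
      exact_mod_cast this
    rcases Int.even_or_odd' k with ⟨m, hm | hm⟩
    · left; rw [hm, zpow_mul, h2, one_zpow]
    · right; rw [hm, zpow_add, zpow_mul, h2, one_zpow, one_mul, zpow_one]
  -- generated by the `n^p` and `V i`
  have hFle : ∀ K : Subgroup G, (∀ p' ∈ P i, p' * n * p'⁻¹ ∈ K) → V i ≤ K → F ≤ K := by
    intro K h1 h2
    refine sup_le (V_le fun g hg => ?_) h2
    rintro _ ⟨x, hx, rfl⟩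
    rcases hpow x hx with h | h
    · subst h; simp
    · subst h; exact h1 g hg
  have hFo : F ≤ o2 (P i) := hFle _ (fun p' hp' => o2_conj D hp' hno) hVo
  have hFT : F ≤ T := hFo.trans (by rw [ho]; exact inf_le_left)
  have hcomm : ∀ p' ∈ P i, ∀ q' ∈ P i, p' * n * p'⁻¹ * (q' * n * q'⁻¹) = q' * n * q'⁻¹ * (p' * n * p'⁻¹) := by
    intro p' hp' q' hq'
    by_contra hne
    have h1 := (c.chi_o D hq' (o2_conj D hp' hno)).resolve_left fun h => hne (by
      rw [mul_inv_eq_iff_eq_mul] at h; exact h)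
    have h2 := (c.chi_o D hp' (o2_conj D hq' hno)).resolve_left fun h => hne (by
      rw [mul_inv_eq_iff_eq_mul] at h; exact h.symm)
    have hs : ∀ g : G, g * n * g⁻¹ * (g * n * g⁻¹) = 1 := fun g => by
      calc g * n * g⁻¹ * (g * n * g⁻¹) = g * (n * n) * g⁻¹ := by group
        _ = 1 := by rw [c.sq D]; group
    have hi : ∀ g : G, (g * n * g⁻¹)⁻¹ = g * n * g⁻¹ := fun g => inv_eq_of_mul_eq_one_left (hs g)
    rw [hi] at h1 h2
    -- `a b a = b y`, `b a b = a x`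
    have hx2 : p' * v i * p'⁻¹ * (p' * v i * p'⁻¹) = 1 := by
      calc p' * v i * p'⁻¹ * (p' * v i * p'⁻¹) = p' * (v i * v i) * p'⁻¹ := by group
        _ = 1 := by rw [D.v_sq i]; group
    have hpv : q' * n * q'⁻¹ * (p' * v i * p'⁻¹) = p' * v i * p'⁻¹ * (q' * n * q'⁻¹) := by
      have h3 := o2_comm D (o2_conj D hq' hno) (mem_V_conj D hp')
      rw [mul_inv_eq_iff_eq_mul] at h3
      exact h3
    have key : p' * v i * p'⁻¹ = q' * v i * q'⁻¹ := by
      -- `(a b)^2 = y`, `(b a)^2 = x`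
      have k1 : p' * n * p'⁻¹ * (q' * n * q'⁻¹) * (p' * n * p'⁻¹) * (q' * n * q'⁻¹) = q' * v i * q'⁻¹ := by
        rw [h1]
        have h3 : q' * v i * q'⁻¹ * (q' * n * q'⁻¹) = q' * n * q'⁻¹ * (q' * v i * q'⁻¹) := by
          have h4 : v i * n = n * v i := (mem_centralizer_singleton_iff.1 (D.N_le_C i i c.nN)).symm
          calc q' * v i * q'⁻¹ * (q' * n * q'⁻¹) = q' * (v i * n) * q'⁻¹ := by group
            _ = q' * (n * v i) * q'⁻¹ := by rw [h4]
            _ = _ := by group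
        rw [mul_assoc, h3, ← mul_assoc, hs, one_mul]
      have k2 : p' * n * p'⁻¹ * (q' * n * q'⁻¹) * (p' * n * p'⁻¹) * (q' * n * q'⁻¹) = p' * v i * p'⁻¹ := by
        calc p' * n * p'⁻¹ * (q' * n * q'⁻¹) * (p' * n * p'⁻¹) * (q' * n * q'⁻¹)
            = p' * n * p'⁻¹ * (q' * n * q'⁻¹ * (p' * n * p'⁻¹) * (q' * n * q'⁻¹)) := by group
          _ = p' * v i * p'⁻¹ := by rw [h2, ← mul_assoc, hs, one_mul]
      rw [← k2, k1]
    have h3 : q'⁻¹ * p' ∈ CC v i := by
      rw [mem_centralizer_singleton_iff]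
      calc q'⁻¹ * p' * v i = q'⁻¹ * (p' * v i * p'⁻¹) * p' := by group
        _ = v i * (q'⁻¹ * p') := by rw [key]; group
    rcases c.same D h3 (mul_mem (inv_mem (D.PN i i hq')) (D.PN i i hp')) with h4 | h4
    · exact hne (by rw [h4])
    · apply hne
      rw [h4]
      have h5 : q' * v i * q'⁻¹ * (q' * n * q'⁻¹) = q' * n * q'⁻¹ * (q' * v i * q'⁻¹) := by
        have h4 : v i * n = n * v i := (mem_centralizer_singleton_iff.1 (D.N_le_C i i c.nN)).symm
        calc q' * v i * q'⁻¹ * (q' * n * q'⁻¹) = q' * (v i * n) * q'⁻¹ := by group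
          _ = q' * (n * v i) * q'⁻¹ := by rw [h4]
          _ = _ := by group
      rw [mul_assoc, h5, ← mul_assoc]
  have hFc : F ≤ centralizer (F : Set G) := by
    refine hFle _ (fun p' hp' => ?_) (fun x hx => ?_)
    · have : F ≤ centralizer ({p' * n * p'⁻¹} : Set G) :=
        hFle _ (fun q' hq' => mem_centralizer_singleton_iff.2 (hcomm q' hq' p' hp')) fun x hx => by
          rw [mem_centralizer_singleton_iff]
          have h3 := o2_comm D (o2_conj D hp' hno) hx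
          rw [mul_inv_eq_iff_eq_mul] at h3
          exact h3.symm
      exact mem_centralizer_iff.2 fun y hy => mem_centralizer_singleton_iff.1 (this hy)
    · refine mem_centralizer_iff.2 fun y hy => ?_
      have h3 := o2_comm D (hFo hy) hx
      rw [mul_inv_eq_iff_eq_mul] at h3
      exact h3
  have hF2 : ∀ x ∈ F, x ^ 2 = 1 := by
    let K : Subgroup G :=
      { carrier := {x | x ∈ F ∧ x ^ 2 = 1}
        one_mem' := ⟨one_mem _, one_pow 2⟩
        mul_mem' := by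
          rintro a b ⟨ha, ha'⟩ ⟨hb, hb'⟩
          refine ⟨mul_mem ha hb, ?_⟩
          have h1 : Commute a b := (mem_centralizer_iff.1 (hFc hb) a ha)
          rw [h1.mul_pow, ha', hb', one_mul]
        inv_mem' := by
          rintro a ⟨ha, ha'⟩
          exact ⟨inv_mem ha, by rw [inv_pow, ha', inv_one]⟩ }
    have h1 : F ≤ K := by
      refine hFle K (fun p' hp' => ⟨hnF p' hp', ?_⟩) fun x hx => ⟨hVF hx, D.sqV i x hx⟩
      rw [conj_pow, D.N_sq i n c.nN, mul_one, mul_inv_cancel]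
    exact fun x hx => (h1 hx).2
  have hn1 : n ∈ F := by simpa using hnF 1 (one_mem _)
  have hFO : F ≤ o2 (centralizer (zc T : Set G)) :=
    (hFle _ (fun p' hp' => c.mem_Qj D hML hK hp') (D.half (ne_add_one i).symm).1).trans (D.Q_le_o2D (i + 1))
  obtain ⟨A, hAT, hAF, hle⟩ := hB F hVF hFO ((D.T_le_P i).trans hPF) hFc hF2
  -- elements of `o2` fixing `n` centralise `F`
  have hfixF : ∀ t ∈ o2 (P i), t * n * t⁻¹ = n → t ∈ centralizer (F : Set G) := by
    intro t ht h1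
    have : F ≤ centralizer ({t} : Set G) := by
      refine hFle _ (fun p' hp' => ?_) fun x hx => ?_
      · rw [mem_centralizer_singleton_iff]
        have h2 := hall p' hp' 1 (one_mem _) t ht (by simpa using h1)
        rw [mul_inv_eq_iff_eq_mul] at h2
        exact h2.symm
      · rw [mem_centralizer_singleton_iff]
        have h2 := o2_comm D ht hx
        rw [mul_inv_eq_iff_eq_mul] at h2
        exact h2.symm
    exact mem_centralizer_iff.2 fun y hy => mem_centralizer_singleton_iff.1 (this hy)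
  have hchi1 : ∀ t ∈ o2 (P i), t * n * t⁻¹ = n ∨ t * n * t⁻¹ = n * v i := by
    intro t ht
    have := c.chi_o D (one_mem (P i)) ht
    simpa using this
  have hvn : v i * n = n * v i := (mem_centralizer_singleton_iff.1 (D.N_le_C i i c.nN)).symm
  have hov : ∀ t ∈ o2 (P i), t * v i * t⁻¹ = v i := fun t ht => o2_comm D ht (D.mem i)
  -- index at most two on `o2`
  have hidx : ∀ B : Subgroup G, B ≤ o2 (P i) → (centralizer (F : Set G)).relIndex B ≤ 2 := by
    intro B hBo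
    refine rel_le_two fun x hx y hy hxn hyn => ?_
    have h1 := (hchi1 x (hBo hx)).resolve_left fun h => hxn (hfixF x (hBo hx) h)
    have h2 := (hchi1 y (hBo hy)).resolve_left fun h => hyn (hfixF y (hBo hy) h)
    refine hfixF _ (mul_mem (hBo hx) (hBo hy)) ?_
    calc x * y * n * (x * y)⁻¹ = x * (y * n * y⁻¹) * x⁻¹ := by group
      _ = (x * n * x⁻¹) * (x * v i * x⁻¹) := by rw [h2]; group
      _ = n * (v i * v i) := by rw [h1, hov x (hBo hx)]; group
      _ = n := by rw [D.v_sq i, mul_one]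
  -- a second point
  obtain ⟨e, he, he1, hev⟩ := D.exists_ne_v i
  obtain ⟨l, hl, -, hle'⟩ := D.tr (ne_add_one i) he he1
  set m : G := l * n * l⁻¹ with hm
  have hmF : m ∈ F := hnF l hl
  have hve : v i * e ≠ 1 := by
    intro h
    apply hev
    have h2 : v i * e = v i * v i := by rw [h, D.v_sq]
    exact mul_left_cancel h2
  -- `n`, `m`, `n m` are moved by the elements of `o2` moving `n`
  have h3 : ∀ s ∈ o2 (P i), s * n * s⁻¹ ≠ n → s * m * s⁻¹ = m * e := by
    intro s hs h1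
    have := hmoves s hs h1 l hl
    rw [hle'] at this
    exact this
  have hthree : ∀ s ∈ o2 (P i), s ∉ centralizer (F : Set G) → ∀ B : Subgroup G, s ∈ B →
      n ∉ centralizer (B : Set G) ∧ m ∉ centralizer (B : Set G) ∧ n * m ∉ centralizer (B : Set G) := by
    intro s hs hsF B hsB
    have h1 : s * n * s⁻¹ ≠ n := fun h => hsF (hfixF s hs h)
    have h1' := (hchi1 s hs).resolve_left h1
    have h2 := h3 s hs h1
    have hc : ∀ x ∈ centralizer (B : Set G), s * x * s⁻¹ = x := by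
      intro x hx
      rw [mem_centralizer_iff.1 hx s hsB, mul_inv_cancel_right]
    refine ⟨fun h => h1 (hc _ h), fun h => ?_, fun h => ?_⟩
    · have := hc _ h
      rw [h2] at this
      exact he1 (mul_eq_left.1 this)
    · have h4 := hc _ h
      have h5 : s * (n * m) * s⁻¹ = (s * n * s⁻¹) * (s * m * s⁻¹) := by group
      rw [h5, h1', h2] at h4
      have h6 : v i * m = m * v i := by
        have h7 := o2_comm D (hFo hmF) (D.mem i)
        rw [mul_inv_eq_iff_eq_mul] at h7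
        exact h7.symm
      have h7 : n * v i * (m * e) = n * m * (v i * e) := by
        calc n * v i * (m * e) = n * (v i * m) * e := by group
          _ = n * m * (v i * e) := by rw [h6]; group
      rw [h7] at h4
      exact hve (mul_eq_left.1 h4)
  by_cases hAo : A ≤ o2 (P i)
  · obtain ⟨s, hs, hsF⟩ := SetLike.not_le_iff_exists.1 hAF
    obtain ⟨k1, k2, k3⟩ := hthree s (hAo hs) hsF A hs
    have h4 := three_le_rel hn1 hmF k1 k2 k3
    have h5 := hidx A hAo
    omega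
  · obtain ⟨a, ha, hao⟩ := SetLike.not_le_iff_exists.1 hAo
    have haT := hAT ha
    have hae : a * e * a⁻¹ = e * v i := Phi.moves D haT hao he he1 hev
    have haP := D.T_le_P i haT
    -- a mover in `o2`
    obtain ⟨s, hs, hsn⟩ := c.mv D hB hV
    have hsne : s * n * s⁻¹ ≠ n := by
      rw [hsn]; intro h; exact D.ne i (mul_eq_left.1 h)
    have hsm := h3 s hs hsne
    -- the vector at `e v i`
    have hsam : s * (a * m * a⁻¹) * s⁻¹ = a * m * a⁻¹ * (e * v i) := by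
      have h4 := hmoves s hs hsne (a * l) (mul_mem haP hl)
      have e1 : a * l * n * (a * l)⁻¹ = a * m * a⁻¹ := by rw [hm]; group
      have e2 : a * l * v i * (a * l)⁻¹ = e * v i := by
        rw [← hae, ← hle']; group
      rwa [e1, e2] at h4
    have hse : s * e * s⁻¹ = e := o2_comm D hs he
    have hsv : s * v i * s⁻¹ = v i := hov s hs
    have hme : a * m * a⁻¹ ≠ m := by
      intro h
      rw [h, hsm] at hsam
      exact D.ne i (by simpa using hsam.symm)
    have hca : ∀ x ∈ centralizer (A : Set G), a * x * a⁻¹ = x := by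
      intro x hx
      rw [mem_centralizer_iff.1 hx a ha, mul_inv_cancel_right]
    have k1 : e ∉ centralizer (A : Set G) := by
      intro h
      have := hca e h
      rw [hae] at this
      exact D.ne i (mul_eq_left.1 this)
    have k2 : m ∉ centralizer (A : Set G) := fun h => hme (hca m h)
    have k3 : e * m ∉ centralizer (A : Set G) := by
      intro h
      have h4 := hca _ h
      have e1 : a * (e * m) * a⁻¹ = (a * e * a⁻¹) * (a * m * a⁻¹) := by group
      rw [e1, hae] at h4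
      -- conjugate with `s`
      have h5 := congrArg (fun t => s * t * s⁻¹) h4
      have e2 : s * (e * v i * (a * m * a⁻¹)) * s⁻¹ =
          (s * e * s⁻¹) * (s * v i * s⁻¹) * (s * (a * m * a⁻¹) * s⁻¹) := by group
      have e3 : s * (e * m) * s⁻¹ = (s * e * s⁻¹) * (s * m * s⁻¹) := by group
      simp only [e2, e3, hse, hsv, hsam, hsm] at h5
      have h6 : e * v i * (a * m * a⁻¹ * (e * v i)) = e * m * (e * v i) := by
        rw [← mul_assoc, h4]
      have h7 : e * (m * e) * v i = e * (m * e) := by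
        calc e * (m * e) * v i = e * m * (e * v i) := by group
          _ = e * v i * (a * m * a⁻¹ * (e * v i)) := h6.symm
          _ = e * (m * e) := h5
      exact D.ne i (mul_eq_left.1 h7)
    have h6 := three_le_rel (hVF he) hmF k1 k2 k3
    -- `A_0`
    set A₀ : Subgroup G := A ⊓ o2 (P i) with hA₀
    have hCo : A ⊓ centralizer (F : Set G) ≤ A₀ := by
      intro x hx
      refine ⟨hx.1, ?_⟩
      rw [ho]
      exact ⟨hAT hx.1, centralizer_le hVF hx.2⟩
    have h7 : A₀.relIndex A ≤ 2 := by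
      refine rel_le_two fun x hx y hy hxn hyn => ⟨mul_mem hx hy, ?_⟩
      exact Phi.mul_mem_o2 D (hAT hx) (fun h => hxn ⟨hx, h⟩) (hAT hy) fun h => hyn ⟨hy, h⟩
    have h8 : (A ⊓ centralizer (F : Set G)).relIndex A₀ * A₀.relIndex A = (centralizer (F : Set G)).relIndex A := by
      rw [relIndex_mul_relIndex _ _ _ hCo inf_le_left, inf_relIndex_left]
    have h9 : (A ⊓ centralizer (F : Set G)).relIndex A₀ = (centralizer (F : Set G)).relIndex A₀ := by
      rw [← inf_relIndex_right (A ⊓ centralizer (F : Set G)), ← inf_relIndex_right (centralizer (F : Set G)),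
        inf_comm A, inf_assoc, inf_eq_right.2 (inf_le_left : A₀ ≤ A)]
    by_cases hA₀F : A₀ ≤ centralizer (F : Set G)
    · rw [h9, relIndex_eq_one.2 hA₀F, one_mul] at h8
      omega
    · obtain ⟨s', hs', hsF'⟩ := SetLike.not_le_iff_exists.1 hA₀F
      obtain ⟨j1, j2, j3⟩ := hthree s' hs'.2 hsF' (zpowers s') (mem_zpowers _)
      have h10 := three_le_rel hn1 hmF j1 j2 j3
      have h11 := hidx A₀ inf_le_right
      -- `F ∩ C(s')`
      set F' : Subgroup G := F ⊓ centralizer ((zpowers s' : Subgroup G) : Set G) with hF'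
      have h12 : F'.relIndex F = (centralizer ((zpowers s' : Subgroup G) : Set G)).relIndex F := inf_relIndex_left _ _
      have hle2 : F ⊓ centralizer (A : Set G) ≤ F' := by
        refine inf_le_inf_left _ (centralizer_le ?_)
        exact zpowers_le.2 hs'.1
      have h13 : (F ⊓ centralizer (A : Set G)).relIndex F' * F'.relIndex F = (centralizer (A : Set G)).relIndex F := by
        rw [relIndex_mul_relIndex _ _ _ hle2 inf_le_left, inf_relIndex_left]
      have heF' : e ∈ F' := by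
        refine ⟨hVF he, mem_centralizer_iff.2 ?_⟩
        rintro _ ⟨k, rfl⟩
        have h14 : Commute s' e := by
          have := o2_comm D hs'.2 he
          rw [mul_inv_eq_iff_eq_mul] at this
          exact this
        exact (h14.zpow_left k).eq
      have h14 := two_le_rel heF' (K := F ⊓ centralizer (A : Set G)) fun h => k1 h.2
      have h15 : 2 * 3 ≤ (centralizer (A : Set G)).relIndex F := by
        rw [← h13, h12]
        exact Nat.mul_le_mul h14 h10
      have h16 : (centralizer (F : Set G)).relIndex A ≤ 2 * 2 := by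
        rw [← h8, h9]
        exact Nat.mul_le_mul h11 h7
      omega

end fr

end Cfsg.Agent.Omega.TC.R

end

section


/-!
# CARD #18791, THEOREM R (helper691 #21425): the literal interfaces between its parts

`O = o2 (centralizer (zc T))`, `XX V v i = WU V v i ⊔ NU V v i`.

* `Fl V v i g` : `g` is a flag on `v i` (`v i ∈ V i ^ g`); its vertex is `y = v_i ^ g`, its vector is `n ^ g`;
* `Loc T V v i n A` : the common input of (3)-(5) (`two` = (2), `five` = the argument at the beginning of (5));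
* `OneA`, `OneB` : (1a), (1b).
-/

set_option autoImplicit false

namespace Cfsg.Agent.Omega.TC.R

open Subgroup Cfsg Cfsg.Agent.ZN
open Cfsg.Agent.Omega.OM.KTwo (CC QQ WU NU EU)
open Cfsg.Agent.Omega.NO3L.LemP (Comm Near vx)
open Cfsg.Agent.ZN.ChoiceBase (AA)
open scoped Pointwise

universe u

variable {G : Type u} [Group G] [Finite G]

/-- `g` is a flag on `v i`; the vertex is `g * v i * g⁻¹`, the vector `g * n * g⁻¹` -/
def Fl (V : Fin 2 → Subgroup G) (v : Fin 2 → G) (i : Fin 2) (g : G) : Prop := g⁻¹ * v i * g ∈ V i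

/-- **the input of (3)-(5)** -/
structure Loc (T : Subgroup G) (V : Fin 2 → Subgroup G) (v : Fin 2 → G) (i : Fin 2) (n : G) (A : Subgroup G) :
    Prop where
  can : Can T V v i n
  le : A ≤ CC v i
  aX : ∀ a ∈ A, ∀ x ∈ XX V v i, a * x * a⁻¹ * x⁻¹ ∈ NU V v i
  mv : ¬ A ≤ centralizer (NU V v i : Set G)
  /-- (2) -/
  two : ∀ g, Fl V v i g → ∀ f ∈ A, f * (g * v i * g⁻¹) * f⁻¹ ≠ g * v i * g⁻¹ →
    f * (g * n * g⁻¹) * f⁻¹ * (g * n * g⁻¹)⁻¹ ∈ NU V v i
  /-- beginning of (5) -/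
  five : (∀ g, Fl V v i g → ∀ q ∈ QQ v i, q * (g * n * g⁻¹) = g * n * g⁻¹ * q) →
    QQ v i ≤ centralizer (XX V v i : Set G) →
    ∀ g, Fl V v i g → ∀ f ∈ A, f * (g * n * g⁻¹) * f⁻¹ * (g * n * g⁻¹)⁻¹ ∈ NU V v i

/-- the output of (3)-(5) -/
def LocF (T : Subgroup G) (V : Fin 2 → Subgroup G) (v : Fin 2 → G) (i : Fin 2) : Prop :=
  ∀ (n : G) (A : Subgroup G), ¬ Loc T V v i n A

/-- **(1b)** : `A ∈ AA(O)` moves `N_i` ⇒ `C_A(N_i)` moves `W_i` -/
def OneB (T : Subgroup G) (V : Fin 2 → Subgroup G) (v : Fin 2 → G) (i : Fin 2) : Prop :=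
  ∀ A : Subgroup G, A ∈ AA (o2 (centralizer (zc T : Set G))) → ¬ A ≤ centralizer (NU V v i : Set G) →
    ¬ A ⊓ centralizer (NU V v i : Set G) ≤ centralizer (WU V v i : Set G)

/-- **(1a)** : `(X_a, X_b)`, `a = (k, g)`, `b = (i, 1)`, a pair at the critical distance `m + 1` ⇒ `C_{X_a}(N_b)` moves
`X_b` -/
def OneA (_T : Subgroup G) (V : Fin 2 → Subgroup G) (v : Fin 2 → G) (i : Fin 2) : Prop :=
  ∀ (m : ℕ) (k : Fin 2) (g : G), Comm (CC v) (XX V v) (m + 1) →
    (∀ r ≤ m, ∀ a c : Fin 2 × G, Near (CC v) r a c → vx (XX V v) a ≤ vx (QQ v) c) →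
    Near (CC v) (m + 1) (k, g) (i, 1) →
    MulAut.conj g • XX V v k ≤ QQ v (i + 1) → XX V v i ≤ MulAut.conj g • QQ v (k + 1) →
    ¬ MulAut.conj g • XX V v k ≤ centralizer (XX V v i : Set G) →
    ¬ MulAut.conj g • XX V v k ⊓ centralizer (NU V v i : Set G) ≤ centralizer (XX V v i : Set G)

end Cfsg.Agent.Omega.TC.R

end

section


/-!
# CARD #18791, THEOREM R (helper691 #21425): (1a) and (1b) from THEOREM G

`oneA_of`, `oneB_of_thmG` : `ThmG V v` gives `OneA T V v i`, `OneB T V v i` (no (V!), no canonical vectors).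
`ThmG V v` is `KL.EndR.thmG` (any frame, THEOREM KL, `hU`).
-/

set_option autoImplicit false
set_option linter.unusedSectionVars false

namespace Cfsg.Agent.Omega.TC.R

open Subgroup Cfsg Cfsg.Agent.ZN
open Cfsg.Agent.Omega.OM.KTwo (CC QQ WU NU EU)
open Cfsg.Agent.Omega.NO3L.LemP (Comm Near vx)
open Cfsg.Agent.ZN.ChoiceBase (AA cj cj_centralizer)
open Cfsg.Agent.Omega.NO3S.EThree.ExactA (eab_iff eab_mono)
open Cfsg.Agent.Omega.NoFF.Basic (conj_le_iff conj_conj)
open Cfsg.Agent.Omega.OM.PG.Peel (Nob)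
open scoped Pointwise

universe u

variable {G : Type u} [Group G] [Finite G]

theorem relIndex_conj (g : G) (A B : Subgroup G) :
    (MulAut.conj g • A).relIndex (MulAut.conj g • B) = A.relIndex B :=
  relIndex_map_map_of_injective A B (MulAut.conj g).injective

theorem conj_cent (g : G) (A : Subgroup G) :
    MulAut.conj g • centralizer (A : Set G) = centralizer ((MulAut.conj g • A : Subgroup G) : Set G) :=
  cj_centralizer g A

theorem nob_conj {g : G} {X B : Subgroup G} (h : Nob X B) : Nob (MulAut.conj g • X) (MulAut.conj g • B) := by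
  unfold Nob at *
  rw [← conj_cent, ← conj_cent, relIndex_conj, relIndex_conj]
  exact h

theorem eab_conj (g : G) {A : Subgroup G} (h : IsElementaryAbelian 2 A) :
    IsElementaryAbelian 2 (MulAut.conj g • A : Subgroup G) := ChoiceBase.isElementaryAbelian_cj g h

variable {T : Subgroup G} {V P : Fin 2 → Subgroup G} {v : Fin 2 → G} (D : Fr T V P v)

include D

theorem cent_of_thmG (hG : ThmG V v) {i : Fin 2} {A : Subgroup G} (hAC : A ≤ CC v i)
    (h : ∀ x ∈ XX V v i, ∀ a ∈ A, a * x * a⁻¹ * x⁻¹ ∈ NU V v i) : A ≤ centralizer (NU V v i : Set G) := by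
  intro a ha
  refine hG i a (hAC ha) fun x hx => ?_
  have h1 := inv_mem (h x hx a ha)
  have e : x * a * x⁻¹ * a⁻¹ = (a * x * a⁻¹ * x⁻¹)⁻¹ := by group
  rw [e]
  exact h1

/-- **(1b)** -/
theorem oneB_of_thmG (hG : ThmG V v) (hML : ML.Final.MLK.{u, u}) (hK : ∀ i, IsKGroup (CC v i)) (i : Fin 2) :
    OneB T V v i := by
  intro A hA hm hc
  apply hm
  have hX : A ⊓ centralizer (NU V v i : Set G) ≤ centralizer (XX V v i : Set G) := by
    intro a ha
    rw [mem_centralizer_iff]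
    intro x hx
    have h1 : NU V v i ≤ normalizer (WU V v i : Set G) := (D.N_le_C i i).trans (D.C_le_N_W i)
    obtain ⟨w, hw, n, hn, rfl⟩ := OM.KTwo.exists_mul_of_mem_sup h1 hx
    have h2 := mem_centralizer_iff.1 (hc ha) w hw
    have h3 := mem_centralizer_iff.1 ha.2 n hn
    calc w * n * a = w * (n * a) := by group
      _ = (w * a) * n := by rw [h3]; group
      _ = a * (w * n) := by rw [h2]; group
  have hXO : XX V v i ≤ o2 (centralizer (zc T : Set G)) := (D.X_le_Q i).trans (D.Q_le_o2D i)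
  have hAC : A ≤ CC v i := hA.2.1.trans ((o2_le _).trans (D.cent_zc_le i))
  have h1 := off (D.X_eab i) hXO hA
  have h2 : (centralizer (XX V v i : Set G)).relIndex A = (centralizer (NU V v i : Set G)).relIndex A := by
    have h3 : A ⊓ centralizer (XX V v i : Set G) = A ⊓ centralizer (NU V v i : Set G) :=
      le_antisymm (inf_le_inf_left _ (centralizer_le (D.N_le_X i))) (le_inf inf_le_left hX)
    rw [← inf_relIndex_left, h3, inf_relIndex_left]
  rw [h2] at h1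
  have h3 := h1.trans (D.no_N hML (hK i) hA.2.1 (eab_iff.1 hA.1).2)
  exact cent_of_thmG D hG hAC (absorb (D.N_le_X i) (D.X_comm i) (hAC.trans (D.C_le_N_N i)) h3)

/-- **(1a)** -/
theorem oneA_of (hG : ThmG V v) (hML : ML.Final.MLK.{u, u}) (hK : ∀ i, IsKGroup (CC v i)) (i : Fin 2) :
    OneA T V v i := by
  intro m k g _ _ _ hAQ hXQ hm hc
  set A : Subgroup G := MulAut.conj g • XX V v k with hA
  have hAO : A ≤ o2 (centralizer (zc T : Set G)) := hAQ.trans (D.Q_le_o2D _)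
  have hAC : A ≤ CC v i := hAQ.trans (D.Q_le_C _ _)
  have hAe : IsElementaryAbelian 2 A := eab_conj g (D.X_eab k)
  -- `|X_i : C(A)| ≤ |A : C_A(X_i)|`
  have h1 : Nob A (XX V v i) := by
    have h2 : MulAut.conj g⁻¹ • XX V v i ≤ QQ v (k + 1) := by
      have h3 := conj_le_iff (g := g⁻¹) |>.2 hXQ
      rwa [conj_conj, inv_mul_cancel, map_one, one_smul] at h3
    have h3 := nob_conj (g := g) (D.nob_X hML (hK k) (eab_conj g⁻¹ (D.X_eab i)) (h2.trans (D.Q_le_o2D _)))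
    rwa [conj_conj, mul_inv_cancel, map_one, one_smul] at h3
  have h2 : (centralizer (XX V v i : Set G)).relIndex A = (centralizer (NU V v i : Set G)).relIndex A := by
    have h3 : A ⊓ centralizer (XX V v i : Set G) = A ⊓ centralizer (NU V v i : Set G) :=
      le_antisymm (inf_le_inf_left _ (centralizer_le (D.N_le_X i))) (le_inf inf_le_left hc)
    rw [← inf_relIndex_left, h3, inf_relIndex_left]
  unfold Nob at h1
  rw [h2] at h1
  have h3 := h1.trans (D.no_N hML (hK i) hAO (eab_iff.1 hAe).2)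
  have h4 := cent_of_thmG D hG hAC (absorb (D.N_le_X i) (D.X_comm i) (hAC.trans (D.C_le_N_N i)) h3)
  exact hm ((le_inf le_rfl h4).trans hc)

end Cfsg.Agent.Omega.TC.R

end

section


/-!
# CARD #18791, THEOREM R (helper691 #21425 (0.4)): the flag vectors

* `Can.mem_Qj`, `Can.mem_Q` : `n^p ∈ Q_i ∩ Q_{i+1}`, `p ∈ P i`;
* `Fl.exists` : a flag is `c * p`, `c ∈ C_i`, `p ∈ P i`;
* `Can.fl_mem`, `Can.fl_comm` : the vectors of the flags on `v i` lie in `Q_i`, centralise `X_i` and commute.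
-/

set_option autoImplicit false
set_option linter.unusedSectionVars false

namespace Cfsg.Agent.Omega.TC.R

open Subgroup Cfsg Cfsg.Agent.ZN Cfsg.Agent.Omega.MinPar
open Cfsg.Agent.Omega.OM.KTwo (CC QQ WU NU EU FF ne_add_one eq_add_one add_one_add_one le_normalizer_V le_V)
open Cfsg.Agent.Omega.NoFF.Basic (conj_conj mem_conj conj_le_iff conj_le_centralizer comm_symm comm_mono
  Z_le_V V_le conj_V_mul)
open Cfsg.Agent.Omega.NOThreeL.Pair (conj_eq_of_mem)
open scoped Pointwise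

universe u

variable {G : Type u} [Group G] [Finite G] {T : Subgroup G} {V P : Fin 2 → Subgroup G} {v : Fin 2 → G}

section fr

variable (D : Fr T V P v)

include D

/-- `n^p` centralises `N_i` and `W_i` -/
theorem Can.p_mem (hML : ML.Final.MLK.{u, u}) (hK : ∀ i, IsKGroup (CC v i)) {i : Fin 2} (hV : ¬ V i ≤ NU V v i)
    {n : G} (c : Can T V v i n) {p : G} (hp : p ∈ P i) :
    p * n * p⁻¹ ∈ QQ v i ∧ p * n * p⁻¹ ∈ centralizer (XX V v i : Set G) := by
  set y := p * v i * p⁻¹ with hy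
  have hyV : y ∈ V i := mem_V_conj D hp
  have hy1 : y ≠ 1 := fun h => D.ne i (conj_eq_one_iff.1 h)
  have hXC : QQ v i ≤ centralizer (NU V v i : Set G) := D.Q_le_cent_N i
  have hsup : ∀ x : G, x ∈ centralizer (WU V v i : Set G) → x ∈ centralizer (NU V v i : Set G) →
      x ∈ centralizer (XX V v i : Set G) := by
    intro x h1 h2
    rw [← zpowers_le] at h1 h2 ⊢
    exact comm_symm (sup_le (comm_symm h1) (comm_symm h2))
  by_cases hyv : y = v i
  · -- `n^p ∈ N_i`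
    have hN : p * n * p⁻¹ ∈ NU V v i := by
      have hpC : p ∈ CC v i := by
        rw [mem_centralizer_singleton_iff]
        calc p * v i = p * v i * p⁻¹ * p := by group
          _ = v i * p := by rw [← hy, hyv]
      exact (mem_normalizer_iff.1 (D.C_le_N_N i hpC) n).1 c.nN
    refine ⟨D.N_le_Q i hN, hsup _ ?_ (D.N_comm i hN)⟩
    exact (D.N_le_cent_Q i).trans (centralizer_le (D.W_le_Q i)) hN
  · have hj := c.mem_Qj D hML hK hp
    set m := p * n * p⁻¹ with hm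
    have hmC : m ∈ CC v i := D.Q_le_C (i + 1) i hj
    have hVp : MulAut.conj p • V i = V i := conj_eq_of_mem (D.PN i i hp)
    -- `[m, N_i] = 1`
    have h1 : m ∈ centralizer (NU V v i : Set G) := by
      rw [mem_centralizer_iff]
      intro x hx
      have hxV : x ∈ centralizer ((MulAut.conj p • V i : Subgroup G) : Set G) := by
        rw [hVp]; exact (D.N_le_cent_Q i).trans (centralizer_le (D.U_le_Q i)) hx
      rcases c.chi D p hxV with h | h
      · rw [← hm] at h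
        calc x * m = x * m * x⁻¹ * x := by group
          _ = m * x := by rw [h]
      · exfalso
        rw [← hm, ← hy] at h
        have h2 : y ∈ NU V v i := by
          have e : y = m⁻¹ * x * m * x⁻¹ := by
            calc y = m⁻¹ * (m * y) := by group
              _ = m⁻¹ * x * m * x⁻¹ := by rw [← h]; group
          rw [e]
          refine mul_mem ?_ (inv_mem hx)
          exact (mem_normalizer_iff''.1 (D.C_le_N_N i hmC) x).1 hx
        rcases mem_N_V D hV c.rad hyV h2 with h3 | h3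
        · exact hy1 h3
        · exact hyv h3
    have h2 : m ∈ QQ v i := D.f3 i ⟨D.Q_le_o2D (i + 1) hj, h1⟩
    refine ⟨h2, hsup _ ?_ h1⟩
    -- `[m, W_i] = 1`
    rw [mem_centralizer_iff]
    intro w hw
    have h3 := D.comm_W_Q i w hw m h2
    rcases D.mem_zpv h3 with h4 | h4
    · calc w * m = w * m * w⁻¹ * m⁻¹ * (m * w) := by group
        _ = m * w := by rw [h4, one_mul]
    · exfalso
      -- `v i ∈ p N_i p⁻¹`
      have hwy : w ∈ MulAut.conj p • CC v i := by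
        rw [mem_conj, mem_centralizer_singleton_iff]
        have h5 : w * y = y * w := (mem_centralizer_iff.1 (D.W_comm i hw) y (D.V_le_W i hyV)).symm
        calc p⁻¹ * w * p * v i = p⁻¹ * (w * (p * v i * p⁻¹)) * p := by group
          _ = p⁻¹ * (y * w) * p := by rw [← hy, h5]
          _ = v i * (p⁻¹ * w * p) := by rw [hy]; group
      have h6 : p⁻¹ * v i * p ∈ NU V v i := by
        have e : p⁻¹ * v i * p = (p⁻¹ * w * p) * n * (p⁻¹ * w * p)⁻¹ * n⁻¹ := by
          rw [← h4, hm]; group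
        rw [e]
        refine mul_mem ?_ (inv_mem c.nN)
        exact (mem_normalizer_iff.1 (D.C_le_N_N i (mem_conj.1 hwy)) n).1 c.nN
      have h7 : p⁻¹ * v i * p ∈ V i := (mem_normalizer_iff''.1 (D.PN i i hp) _).1 (D.mem i)
      rcases mem_N_V D hV c.rad h7 h6 with h8 | h8
      · apply D.ne i
        have := congrArg (fun t => p * t * p⁻¹) h8
        simpa [mul_assoc] using this
      · apply hyv
        rw [hy]
        calc p * v i * p⁻¹ = p * (p⁻¹ * v i * p) * p⁻¹ := by rw [h8]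
          _ = v i := by group

theorem Fl_mul {i : Fin 2} {c g : G} (hc : c ∈ CC v i) (hg : Fl V v i g) : Fl V v i (c * g) := by
  have h1 : c⁻¹ * v i * c = v i := by
    have h2 : c * v i = v i * c := mem_centralizer_singleton_iff.1 hc
    rw [mul_assoc, ← h2, inv_mul_cancel_left]
  change (c * g)⁻¹ * v i * (c * g) ∈ V i
  have e : (c * g)⁻¹ * v i * (c * g) = g⁻¹ * (c⁻¹ * v i * c) * g := by group
  rw [e, h1]
  exact hg

theorem Fl_P {i : Fin 2} {p : G} (hp : p ∈ P i) : Fl V v i p :=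
  (mem_normalizer_iff''.1 (D.PN i i hp) _).1 (D.mem i)

/-- a flag is `c * p` -/
theorem Fl_exists {i : Fin 2} {g : G} (hg : Fl V v i g) : ∃ c ∈ CC v i, ∃ p ∈ P i, g = c * p := by
  have h1 : g⁻¹ * v i * g ≠ 1 := by
    intro h
    apply D.ne i
    have := congrArg (fun t => g * t * g⁻¹) h
    simpa [mul_assoc] using this
  obtain ⟨l, hl, -, hlx⟩ := D.tr (ne_add_one i) hg h1
  refine ⟨g * l, ?_, l⁻¹, inv_mem hl, by group⟩
  rw [mem_centralizer_singleton_iff]
  calc g * l * v i = g * (l * v i * l⁻¹) * l := by group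
    _ = v i * (g * l) := by rw [hlx]; group

theorem Can.fl_mem (hML : ML.Final.MLK.{u, u}) (hK : ∀ i, IsKGroup (CC v i)) {i : Fin 2} (hV : ¬ V i ≤ NU V v i)
    {n : G} (c : Can T V v i n) {g : G} (hg : Fl V v i g) :
    g * n * g⁻¹ ∈ QQ v i ∧ g * n * g⁻¹ ∈ centralizer (XX V v i : Set G) := by
  obtain ⟨d, hd, p, hp, rfl⟩ := Fl_exists D hg
  obtain ⟨h1, h2⟩ := c.p_mem D hML hK hV hp
  have e : d * p * n * (d * p)⁻¹ = d * (p * n * p⁻¹) * d⁻¹ := by group
  rw [e]
  refine ⟨(mem_normalizer_iff.1 (ZN.le_normalizer_o2 _ hd) _).1 h1, ?_⟩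
  have h3 := D.C_le_N_X i hd
  rw [mem_centralizer_iff] at h2 ⊢
  intro x hx
  have h4 := h2 (d⁻¹ * x * d) ((mem_normalizer_iff''.1 h3 x).1 hx)
  calc x * (d * (p * n * p⁻¹) * d⁻¹) = d * (d⁻¹ * x * d * (p * n * p⁻¹)) * d⁻¹ := by group
    _ = d * (p * n * p⁻¹) * d⁻¹ * x := by rw [h4]; group

/-- the line of a flag lies in `W_i` -/
theorem Fl_line {i : Fin 2} {g : G} (hg : Fl V v i g) : MulAut.conj g • V i ≤ WU V v i := by
  obtain ⟨d, hd, p, hp, rfl⟩ := Fl_exists D hg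
  have h1 : MulAut.conj (d * p) • V i = MulAut.conj d • V i := by
    rw [← conj_conj, conj_eq_of_mem (D.PN i i hp)]
  rw [h1]
  have h2 : MulAut.conj d • V i ≤ MulAut.conj d • WU V v i := conj_le_iff.2 (D.V_le_W i)
  rwa [conj_eq_of_mem (D.C_le_N_W i hd)] at h2

theorem Fl_point {i : Fin 2} {g : G} (hg : Fl V v i g) : g * v i * g⁻¹ ∈ WU V v i :=
  Fl_line D hg ⟨v i, D.mem i, rfl⟩

theorem Can.fl_comm (hML : ML.Final.MLK.{u, u}) (hK : ∀ i, IsKGroup (CC v i)) {i : Fin 2} (hV : ¬ V i ≤ NU V v i)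
    {n : G} (c : Can T V v i n) {g h : G} (hg : Fl V v i g) (hh : Fl V v i h) :
    (g * n * g⁻¹) * (h * n * h⁻¹) = (h * n * h⁻¹) * (g * n * g⁻¹) := by
  obtain ⟨hg1, hg2⟩ := c.fl_mem D hML hK hV hg
  obtain ⟨hh1, hh2⟩ := c.fl_mem D hML hK hV hh
  have hWX : WU V v i ≤ XX V v i := le_sup_left
  have hgc : g * n * g⁻¹ ∈ centralizer ((MulAut.conj h • V i : Subgroup G) : Set G) :=
    centralizer_le ((Fl_line D hh).trans hWX) hg2
  have hhc : h * n * h⁻¹ ∈ centralizer ((MulAut.conj g • V i : Subgroup G) : Set G) :=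
    centralizer_le ((Fl_line D hg).trans hWX) hh2
  rcases c.chi D h hgc with h1 | h1
  · calc (g * n * g⁻¹) * (h * n * h⁻¹) = (g * n * g⁻¹) * (h * n * h⁻¹) * (g * n * g⁻¹)⁻¹ * (g * n * g⁻¹) := by group
      _ = _ := by rw [h1]
  rcases c.chi D g hhc with h2 | h2
  · calc (g * n * g⁻¹) * (h * n * h⁻¹) = (h * n * h⁻¹) * (g * n * g⁻¹) * (h * n * h⁻¹)⁻¹ * (h * n * h⁻¹) := by
          rw [h2]
      _ = _ := by group
  · -- the points are equal
    set a := g * n * g⁻¹ with ha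
    set b := h * n * h⁻¹ with hb
    set y := g * v i * g⁻¹ with hy
    set z := h * v i * h⁻¹ with hz
    have hzy : z = y := by
      have e1 : z = b⁻¹ * (a * b * a⁻¹) := by rw [h1]; group
      have e2 : y = a⁻¹ * (b * a * b⁻¹) := by rw [h2]; group
      have hyy : y * y = 1 := by
        have : y * y = g * (v i * v i) * g⁻¹ := by rw [hy]; group
        rw [this, D.v_sq]; group
      have hzz : z * z = 1 := by
        have : z * z = h * (v i * v i) * h⁻¹ := by rw [hz]; group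
        rw [this, D.v_sq]; group
      have haa : a * a = 1 := by
        have : a * a = g * (n * n) * g⁻¹ := by rw [ha]; group
        rw [this, c.sq D]; group
      have hbb : b * b = 1 := by
        have : b * b = h * (n * n) * h⁻¹ := by rw [hb]; group
        rw [this, c.sq D]; group
      have hai : a⁻¹ = a := inv_eq_of_mul_eq_one_left haa
      have hbi : b⁻¹ = b := inv_eq_of_mul_eq_one_left hbb
      have hyi : y⁻¹ = y := inv_eq_of_mul_eq_one_left hyy
      rw [hai, hbi] at e1 e2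
      have e3 : (a * (b * a * b))⁻¹ = b * (a * b * a) := by
        simp only [mul_inv_rev, hai, hbi, mul_assoc]
      rw [e1, ← e3, ← e2, hyi]
    -- both in `N_y`
    have hgh : h⁻¹ * g ∈ CC v i := by
      rw [mem_centralizer_singleton_iff]
      calc h⁻¹ * g * v i = h⁻¹ * (g * v i * g⁻¹) * g := by group
        _ = h⁻¹ * (h * v i * h⁻¹) * g := by rw [← hy, ← hzy]
        _ = v i * (h⁻¹ * g) := by group
    have h3 : h⁻¹ * g * n * (h⁻¹ * g)⁻¹ ∈ NU V v i := (mem_normalizer_iff.1 (D.C_le_N_N i hgh) n).1 c.nN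
    have h4 := mem_centralizer_iff.1 (D.N_comm i h3) n c.nN
    calc a * b = h * (h⁻¹ * g * n * (h⁻¹ * g)⁻¹ * n) * h⁻¹ := by rw [ha, hb]; group
      _ = h * (n * (h⁻¹ * g * n * (h⁻¹ * g)⁻¹)) * h⁻¹ := by rw [← h4]
      _ = b * a := by rw [ha, hb]; group

end fr

end Cfsg.Agent.Omega.TC.R

end

section


/-!
# CARD #18791, THEOREM R (helper691 #21425): (1b) (helper674)

`A ∈ AA(O)`, `O = o2 (centralizer (zc T))`, moves `N_i`, `A_b := C_A(N_i)` centralises `W_i`:

* `aX_of` : `[X_i, A] ≤ N_i`; `can_of` : a canonical vector exists (`V i ≰ N_i` is not needed here);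
* `Fl.le_W` : a flag on `v i` gives a line of `W_i`;
* `cent_vec` : `A_b` centralises the vector of every flag moved by `A` (otherwise `B := A_b N_i`, of maximal order, has
  the subgroup `B ∩ C(n_y)` of index 2 and `(B ∩ C(n_y)) ⟨n_y, n_y ^ f⟩` is larger than `B`);
* `vec_of` : then `[n_y, A] ≤ N_i`; `loc_of` : the input of (3)-(5);
* **`oneB : ¬ V i ≤ NU V v i → LocF T V v i → OneB T V v i`**.
-/

set_option autoImplicit false
set_option linter.unusedSectionVars false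

namespace Cfsg.Agent.Omega.TC.R

open Subgroup Cfsg Cfsg.Agent.ZN
open Cfsg.Agent.Omega.OM.KTwo (CC QQ WU NU EU FF ne_add_one le_normalizer_V le_V)
open Cfsg.Agent.Omega.NoFF.Basic (comm_symm Z_le_V V_le)
open Cfsg.Agent.Omega.TC.ThmI (rel_le_two three_le_rel)
open Cfsg.Agent.Omega.NO3S.EThree.ExactA (eab_iff eab_mono)
open Cfsg.Agent.ZN.ChoiceBase (AA)
open scoped Pointwise

universe u

/-- the join of two commuting elementary abelian groups -/
theorem eab_sup {G : Type*} [Group G] [Finite G] {A B : Subgroup G} (hA : IsElementaryAbelian 2 A)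
    (hB : IsElementaryAbelian 2 B) (h : A ≤ centralizer (B : Set G)) :
    IsElementaryAbelian 2 (A ⊔ B : Subgroup G) := by
  rw [eab_iff] at *
  have hc : A ⊔ B ≤ centralizer ((A ⊔ B : Subgroup G) : Set G) :=
    sup_le (comm_symm (sup_le hA.1 (comm_symm h))) (comm_symm (sup_le h hB.1))
  refine ⟨hc, ?_⟩
  intro x hx
  obtain ⟨a, ha, b, hb, rfl⟩ := OM.PG.Peel.exists_mul_of_comm h hx
  have h1 : a * b = b * a := (mem_centralizer_iff.1 (h ha) b hb).symm
  calc (a * b) ^ 2 = a * (b * a) * b := by rw [pow_two]; group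
    _ = a ^ 2 * b ^ 2 := by rw [← h1, pow_two, pow_two]; group
    _ = 1 := by rw [hA.2 a ha, hB.2 b hb, one_mul]

theorem zpowers_eq_or {G : Type*} [Group G] {m : G} (hm : m * m = 1) {x : G} (hx : x ∈ zpowers m) :
    x = 1 ∨ x = m := by
  obtain ⟨k, rfl⟩ := mem_zpowers_iff.1 hx
  have h2 : m ^ (2 : ℤ) = 1 := by
    have : m ^ 2 = 1 := by rw [pow_two, hm]
    exact_mod_cast this
  rcases Int.even_or_odd' k with ⟨j, hj | hj⟩
  · left; rw [hj, zpow_mul, h2, one_zpow]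
  · right; rw [hj, zpow_add, zpow_mul, h2, one_zpow, one_mul, zpow_one]

theorem eab_zpowers {G : Type*} [Group G] {m : G} (hm : m * m = 1) : IsElementaryAbelian 2 (zpowers m) := by
  rw [eab_iff]
  refine ⟨fun x hx => mem_centralizer_iff.2 fun y hy => ?_, fun x hx => ?_⟩
  · rcases zpowers_eq_or hm hx with h | h <;> rcases zpowers_eq_or hm hy with h' | h' <;> rw [h, h'] <;> simp
  · rcases zpowers_eq_or hm hx with h | h
    · rw [h, one_pow]
    · rw [h, pow_two, hm]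

theorem le_cent_zpowers {G : Type*} [Group G] {A : Subgroup G} {m : G} (h : ∀ a ∈ A, a * m = m * a) :
    A ≤ centralizer ((zpowers m : Subgroup G) : Set G) := by
  intro a ha
  rw [mem_centralizer_iff]
  rintro _ ⟨k, rfl⟩
  have h1 : Commute m a := (h a ha).symm
  exact (h1.zpow_left k).eq

variable {G : Type u} [Group G] [Finite G] {T : Subgroup G} {V P : Fin 2 → Subgroup G} {v : Fin 2 → G}

section fr

variable (D : Fr T V P v)

include D

theorem oD_le_C (i : Fin 2) : o2 (centralizer (zc T : Set G)) ≤ CC v i := D.o2D_le_T.trans (D.T_le_C i)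

/-- the line of a flag on `v i` is in `W_i` -/
theorem Fl.le_W {i : Fin 2} {g : G} (hg : Fl V v i g) : (MulAut.conj g • V i : Subgroup G) ≤ WU V v i := by
  have h1 : g⁻¹ * v i * g ≠ 1 := by
    intro h
    apply D.ne i
    calc v i = g * (g⁻¹ * v i * g) * g⁻¹ := by group
      _ = 1 := by rw [h]; group
  obtain ⟨p, hp, -, hpx⟩ := D.tr (ne_add_one i) hg h1
  have hc : g * p ∈ CC v i := by
    rw [mem_centralizer_singleton_iff]
    calc g * p * v i = g * (p * v i * p⁻¹) * p := by group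
      _ = v i * (g * p) := by rw [hpx]; group
  have h2 : (MulAut.conj g • V i : Subgroup G) = MulAut.conj (g * p) • V i := by
    rw [map_mul, mul_smul, NOThreeL.Pair.conj_eq_of_mem (D.PN i i hp)]
  rw [h2]
  exact Z_le_V hc

theorem Fl.mem_W {i : Fin 2} {g : G} (hg : Fl V v i g) : g * v i * g⁻¹ ∈ WU V v i :=
  Fl.le_W D hg ⟨v i, D.mem i, rfl⟩

/-- flags are moved by `C_i` -/
theorem Fl.mul {i : Fin 2} {g f : G} (hg : Fl V v i g) (hf : f ∈ CC v i) : Fl V v i (f * g) := by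
  unfold Fl at *
  have h1 : f⁻¹ * v i * f = v i := by
    have := D.conj_v i (inv_mem hf)
    rwa [inv_inv] at this
  have h2 : (f * g)⁻¹ * v i * (f * g) = g⁻¹ * (f⁻¹ * v i * f) * g := by group
  rw [h2, h1]
  exact hg

/-- `C_A(N_i)`, `A ∈ AA(O)`: `|A : C_A(N_i)| ≤ |N_i : C_{N_i}(A)|` -/
theorem rel_le (hML : ML.Final.MLK.{u, u}) {i : Fin 2} (hK : IsKGroup (CC v i)) {A : Subgroup G}
    (hA : A ∈ AA (o2 (centralizer (zc T : Set G)))) :
    (A ⊓ centralizer (NU V v i : Set G)).relIndex A ≤ (centralizer (A : Set G)).relIndex (NU V v i) := by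
  rw [inf_relIndex_left]
  exact D.no_N hML hK hA.2.1 hA.1.2

/-- `C_A(N_i)` centralises `Y`, `N_i ≤ Y ≤ O`: `[Y, A] ≤ N_i` -/
theorem comm_of (hML : ML.Final.MLK.{u, u}) {i : Fin 2} (hK : IsKGroup (CC v i)) {A Y : Subgroup G}
    (hA : A ∈ AA (o2 (centralizer (zc T : Set G)))) (hNY : NU V v i ≤ Y) (hYe : IsElementaryAbelian 2 Y)
    (hYO : Y ≤ o2 (centralizer (zc T : Set G))) (hc : A ⊓ centralizer (NU V v i : Set G) ≤ centralizer (Y : Set G)) :
    ∀ y ∈ Y, ∀ a ∈ A, a * y * a⁻¹ * y⁻¹ ∈ NU V v i := by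
  refine absorb hNY (eab_iff.1 hYe).1 ((hA.2.1.trans (oD_le_C D i)).trans (D.C_le_N_N i)) ?_
  exact (rel_le_of_max hA.1 inf_le_left hYe hc (inf_le_left.trans hA.2.1) hYO hA.2.2).trans (rel_le D hML hK hA)

theorem aX_of (hML : ML.Final.MLK.{u, u}) {i : Fin 2} (hK : IsKGroup (CC v i)) {A : Subgroup G}
    (hA : A ∈ AA (o2 (centralizer (zc T : Set G))))
    (hW : A ⊓ centralizer (NU V v i : Set G) ≤ centralizer (WU V v i : Set G)) :
    ∀ a ∈ A, ∀ x ∈ XX V v i, a * x * a⁻¹ * x⁻¹ ∈ NU V v i := by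
  have h1 : A ⊓ centralizer (NU V v i : Set G) ≤ centralizer (XX V v i : Set G) :=
    comm_symm (sup_le (comm_symm hW) (comm_symm inf_le_right))
  exact fun a ha x hx =>
    comm_of D hML hK hA (D.N_le_X i) (D.X_eab i) ((D.X_le_Q i).trans (D.Q_le_o2D i)) h1 x hx a ha

/-- a canonical vector -/
theorem can_of {i : Fin 2} {A : Subgroup G} (hAC : A ≤ CC v i)
    (hX : ∀ a ∈ A, ∀ x ∈ XX V v i, a * x * a⁻¹ * x⁻¹ ∈ NU V v i) (hm : ¬ A ≤ centralizer (NU V v i : Set G)) :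
    ∃ n, Can T V v i n := by
  let K : Subgroup G :=
    { carrier := {r | r ∈ CC v i ∧ ∀ x ∈ XX V v i, r * x * r⁻¹ * x⁻¹ ∈ NU V v i}
      one_mem' := ⟨one_mem _, fun x _ => by simp⟩
      mul_mem' := by
        rintro a b ⟨ha, ha'⟩ ⟨hb, hb'⟩
        refine ⟨mul_mem ha hb, fun x hx => ?_⟩
        have e : a * b * x * (a * b)⁻¹ * x⁻¹ = (a * (b * x * b⁻¹ * x⁻¹) * a⁻¹) * (a * x * a⁻¹ * x⁻¹) := by group
        rw [e]
        exact mul_mem ((mem_normalizer_iff.1 (D.C_le_N_N i ha) _).1 (hb' x hx)) (ha' x hx)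
      inv_mem' := by
        rintro a ⟨ha, ha'⟩
        refine ⟨inv_mem ha, fun x hx => ?_⟩
        have e : a⁻¹ * x * a⁻¹⁻¹ * x⁻¹ = a⁻¹ * (a * x * a⁻¹ * x⁻¹)⁻¹ * a⁻¹⁻¹ := by group
        rw [e]
        exact (mem_normalizer_iff.1 (D.C_le_N_N i (inv_mem ha)) _).1 (inv_mem (ha' x hx)) }
  have hRK : NoFF.Basic.V A (CC v i) ≤ K := by
    refine V_le fun c hc => ?_
    rintro _ ⟨r, hr, rfl⟩
    change c * r * c⁻¹ ∈ K
    refine ⟨mul_mem (mul_mem hc (hAC hr)) (inv_mem hc), fun x hx => ?_⟩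
    have h1 : c⁻¹ * x * c ∈ XX V v i := (mem_normalizer_iff''.1 (D.C_le_N_X i hc) x).1 hx
    have e : c * r * c⁻¹ * x * (c * r * c⁻¹)⁻¹ * x⁻¹ = c * (r * (c⁻¹ * x * c) * r⁻¹ * (c⁻¹ * x * c)⁻¹) * c⁻¹ := by
      group
    rw [e]
    exact (mem_normalizer_iff.1 (D.C_le_N_N i hc) _).1 (hX r hr _ h1)
  refine exists_can D (i := i) (R := NoFF.Basic.V A (CC v i)) (fun r hr => (hRK hr).1) (le_normalizer_V _ _)
    (fun r hr x hx => (hRK hr).2 x (D.V_le_X i hx)) fun h => hm ((le_V _ _).trans h)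

/-- `C_A(N_i)` centralises `m ∈ C_{Q_i}(X_i)`: `[m, A] ≤ N_i` -/
theorem vec_of (hML : ML.Final.MLK.{u, u}) {i : Fin 2} (hK : IsKGroup (CC v i)) {A : Subgroup G}
    (hA : A ∈ AA (o2 (centralizer (zc T : Set G))))
    (hW : A ⊓ centralizer (NU V v i : Set G) ≤ centralizer (WU V v i : Set G)) {m : G} (hmQ : m ∈ QQ v i)
    (hmX : m ∈ centralizer (XX V v i : Set G)) (hm2 : m * m = 1)
    (hAm : ∀ a ∈ A ⊓ centralizer (NU V v i : Set G), a * m = m * a) :
    ∀ f ∈ A, f * m * f⁻¹ * m⁻¹ ∈ NU V v i := by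
  have hXm : XX V v i ≤ centralizer ((zpowers m : Subgroup G) : Set G) :=
    le_cent_zpowers fun x hx => mem_centralizer_iff.1 hmX x hx
  have h1 : A ⊓ centralizer (NU V v i : Set G) ≤ centralizer ((XX V v i ⊔ zpowers m : Subgroup G) : Set G) :=
    comm_symm (sup_le (sup_le (comm_symm hW) (comm_symm inf_le_right)) (comm_symm (le_cent_zpowers hAm)))
  intro f hf
  exact comm_of D hML hK hA ((D.N_le_X i).trans le_sup_left) (eab_sup (D.X_eab i) (eab_zpowers hm2) hXm)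
    (sup_le ((D.X_le_Q i).trans (D.Q_le_o2D i)) (zpowers_le.2 (D.Q_le_o2D i hmQ))) h1 m
    (mem_sup_right (mem_zpowers m)) f hf

/-- **`C_A(N_i)` centralises the vector of every flag moved by `A`** -/
theorem cent_vec (hML : ML.Final.MLK.{u, u}) {i : Fin 2} (hK : IsKGroup (CC v i)) {n : G} (c : Can T V v i n)
    {A : Subgroup G} (hA : A ∈ AA (o2 (centralizer (zc T : Set G))))
    (hW : A ⊓ centralizer (NU V v i : Set G) ≤ centralizer (WU V v i : Set G))
    (hmem : ∀ g, Fl V v i g → g * n * g⁻¹ ∈ QQ v i ∧ g * n * g⁻¹ ∈ centralizer (XX V v i : Set G))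
    (hcomm : ∀ g h, Fl V v i g → Fl V v i h → g * n * g⁻¹ * (h * n * h⁻¹) = h * n * h⁻¹ * (g * n * g⁻¹))
    {g f : G} (hg : Fl V v i g) (hf : f ∈ A) (hmv : f * (g * v i * g⁻¹) * f⁻¹ ≠ g * v i * g⁻¹) :
    ∀ a ∈ A ⊓ centralizer (NU V v i : Set G), a * (g * n * g⁻¹) = g * n * g⁻¹ * a := by
  by_contra hcon
  push Not at hcon
  obtain ⟨c0, hc0, hcm⟩ := hcon
  set O := o2 (centralizer (zc T : Set G)) with hO
  set N := NU V v i with hN
  set A₁ := A ⊓ centralizer (N : Set G) with hA₁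
  set m := g * n * g⁻¹ with hm
  set y := g * v i * g⁻¹ with hy
  have hA2 := eab_iff.1 hA.1
  have hfC : f ∈ CC v i := oD_le_C D i (hA.2.1 hf)
  have hfg : Fl V v i (f * g) := Fl.mul D hg hfC
  set m' := f * m * f⁻¹ with hm'
  set y' := f * y * f⁻¹ with hy'
  have em' : f * g * n * (f * g)⁻¹ = m' := by rw [hm', hm]; group
  obtain ⟨hmQ, hmX⟩ := hmem g hg
  obtain ⟨hmQ', hmX'⟩ := hmem _ hfg
  rw [em'] at hmQ' hmX'
  have hmm : m * m = 1 := by
    calc m * m = g * (n * n) * g⁻¹ := by rw [hm]; group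
      _ = 1 := by rw [c.sq D]; group
  have hmm' : m' * m' = 1 := by
    calc m' * m' = f * (m * m) * f⁻¹ := by rw [hm']; group
      _ = 1 := by rw [hmm]; group
  have hcomm' : m * m' = m' * m := by
    have := hcomm g (f * g) hg hfg
    rwa [em'] at this
  have hyy : y * y = 1 := by
    calc y * y = g * (v i * v i) * g⁻¹ := by rw [hy]; group
      _ = 1 := by rw [D.v_sq i]; group
  -- `B = A₁ N`
  set B := A₁ ⊔ N with hB
  have hNX : N ≤ XX V v i := D.N_le_X i
  have hWX : WU V v i ≤ XX V v i := le_sup_left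
  have hA₁N : A₁ ≤ centralizer (N : Set G) := inf_le_right
  have hNe : IsElementaryAbelian 2 N := eab_mono (D.X_eab i) hNX
  have hBe : IsElementaryAbelian 2 B := eab_sup (eab_mono hA.1 inf_le_left) hNe hA₁N
  have hBO : B ≤ O := sup_le (inf_le_left.trans hA.2.1) (D.N_le_oD i)
  have hyW : y ∈ WU V v i := Fl.mem_W D hg
  -- `B` centralises the line
  have hBl : B ≤ centralizer (WU V v i : Set G) :=
    sup_le hW (hNX.trans ((D.X_comm i).trans (centralizer_le hWX)))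
  have hchi : ∀ x ∈ B, x * m * x⁻¹ = m ∨ x * m * x⁻¹ = m * y := fun x hx =>
    c.chi D g (centralizer_le (Fl.le_W D hg) (hBl hx))
  have hBy : ∀ x ∈ B, x * y * x⁻¹ = y := fun x hx => by
    rw [← mem_centralizer_iff.1 (hBl hx) y hyW, mul_inv_cancel_right]
  -- order of `B`
  have hAB : Nat.card A ≤ Nat.card B := by
    have h1 : Nat.card A₁ * A₁.relIndex A = Nat.card A := card_rel inf_le_left
    have h2 : Nat.card A₁ * A₁.relIndex B = Nat.card B := card_rel le_sup_left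
    rw [← h1, ← h2]
    refine Nat.mul_le_mul_left _ ((rel_le D hML hK hA).trans ?_)
    refine le_trans ?_ (relIndex_le_of_le_right (le_sup_right : N ≤ B) index_ne_zero_of_finite)
    have h3 : N ⊓ A₁ ≤ centralizer (A : Set G) := inf_le_right.trans (inf_le_left.trans hA2.1)
    rw [← inf_relIndex_left N A₁, ← inf_relIndex_left N (centralizer (A : Set G))]
    exact relIndex_le_of_le_left (le_inf inf_le_left h3) index_ne_zero_of_finite
  -- `B₁`
  set B₁ := B ⊓ centralizer ({m} : Set G) with hB₁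
  have hB₁B : B₁ ≤ B := inf_le_left
  have hmem₁ : ∀ x, x ∈ B₁ ↔ x ∈ B ∧ x * m = m * x := fun x => by
    rw [hB₁, mem_inf, mem_centralizer_singleton_iff]
  have h2 : B₁.relIndex B ≤ 2 := by
    refine rel_le_two fun x hx z hz hxn hzn => (hmem₁ _).2 ⟨mul_mem hx hz, ?_⟩
    have hx1 : x * m * x⁻¹ = m * y := (hchi x hx).resolve_left fun h =>
      hxn ((hmem₁ x).2 ⟨hx, by rw [mul_inv_eq_iff_eq_mul] at h; exact h⟩)
    have hz1 : z * m * z⁻¹ = m * y := (hchi z hz).resolve_left fun h =>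
      hzn ((hmem₁ z).2 ⟨hz, by rw [mul_inv_eq_iff_eq_mul] at h; exact h⟩)
    have h3 : x * z * m * (x * z)⁻¹ = m := by
      calc x * z * m * (x * z)⁻¹ = x * (z * m * z⁻¹) * x⁻¹ := by group
        _ = (x * m * x⁻¹) * (x * y * x⁻¹) := by rw [hz1]; group
        _ = m * (y * y) := by rw [hx1, hBy x hx]; group
        _ = m := by rw [hyy, mul_one]
    rw [mul_inv_eq_iff_eq_mul] at h3
    exact h3
  -- `B₁` centralises `m'`
  have hNm : ∀ k ∈ N, k * m = m * k := fun k hk => mem_centralizer_iff.1 hmX k (hNX hk)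
  have hNm' : ∀ k ∈ N, k * m' = m' * k := fun k hk => mem_centralizer_iff.1 hmX' k (hNX hk)
  have hAf : ∀ a ∈ A₁, a * f = f * a := fun a ha => (mem_centralizer_iff.1 (hA2.1 ha.1) f hf).symm
  have hA₁m' : ∀ a ∈ A₁, a * m' * a⁻¹ = f * (a * m * a⁻¹) * f⁻¹ := by
    intro a ha
    have h1 := hAf a ha
    have h2 : f⁻¹ * a⁻¹ = a⁻¹ * f⁻¹ := by rw [← mul_inv_rev, h1, mul_inv_rev]
    calc a * m' * a⁻¹ = (a * f) * m * (f⁻¹ * a⁻¹) := by rw [hm']; group
      _ = (f * a) * m * (a⁻¹ * f⁻¹) := by rw [h1, h2]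
      _ = f * (a * m * a⁻¹) * f⁻¹ := by group
  have hB₁m' : ∀ x ∈ B₁, x * m' = m' * x := by
    intro x hx
    obtain ⟨hxB, hxm⟩ := (hmem₁ x).1 hx
    obtain ⟨a, ha, k, hk, rfl⟩ := OM.PG.Peel.exists_mul_of_comm hA₁N hxB
    have h3 : a * m = m * a := by
      have h4 : a * m * k = m * a * k :=
        calc a * m * k = a * (m * k) := mul_assoc _ _ _
          _ = a * (k * m) := by rw [hNm k hk]
          _ = a * k * m := (mul_assoc _ _ _).symm
          _ = m * (a * k) := hxm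
          _ = m * a * k := (mul_assoc _ _ _).symm
      exact mul_right_cancel h4
    have h5 : a * m' * a⁻¹ = m' := by
      rw [hA₁m' a ha, h3, mul_inv_cancel_right]
    rw [mul_inv_eq_iff_eq_mul] at h5
    rw [mul_assoc, hNm' k hk, ← mul_assoc, h5, mul_assoc]
  -- `E`
  set E := B₁ ⊔ (zpowers m ⊔ zpowers m') with hE
  have hzz : IsElementaryAbelian 2 (zpowers m ⊔ zpowers m' : Subgroup G) := by
    refine eab_sup (eab_zpowers hmm) (eab_zpowers hmm') (le_cent_zpowers fun x hx => ?_)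
    rcases zpowers_eq_or hmm hx with h | h
    · rw [h, one_mul, mul_one]
    · rw [h]; exact hcomm'
  have hEe : IsElementaryAbelian 2 E := by
    refine eab_sup (eab_mono hBe hB₁B) hzz (comm_symm (sup_le ?_ ?_))
    · exact comm_symm (le_cent_zpowers fun x hx => ((hmem₁ x).1 hx).2)
    · exact comm_symm (le_cent_zpowers fun x hx => hB₁m' x hx)
  have hEO : E ≤ O := sup_le (hB₁B.trans hBO)
    (sup_le (zpowers_le.2 (D.Q_le_o2D i hmQ)) (zpowers_le.2 (D.Q_le_o2D i hmQ')))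
  -- `c0`
  have hc0B : c0 ∈ B := mem_sup_left hc0
  have hc0m : c0 * m * c0⁻¹ = m * y := (hchi c0 hc0B).resolve_left fun h => hcm (by
    rw [mul_inv_eq_iff_eq_mul] at h; exact h)
  have hc0m' : c0 * m' * c0⁻¹ = m' * y' := by
    rw [hA₁m' c0 hc0, hc0m, hm', hy']; group
  have hcB₁ : ∀ x ∈ B₁, c0 * x * c0⁻¹ = x := fun x hx => by
    rw [← mem_centralizer_iff.1 ((eab_iff.1 hBe).1 hc0B) x (hB₁B hx), mul_inv_cancel_right]
  have hy1 : y ≠ 1 := by
    intro h
    apply D.ne i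
    calc v i = g⁻¹ * y * g := by rw [hy]; group
      _ = 1 := by rw [h]; group
  have k1 : m ∉ B₁ := by
    intro h
    have h3 := hcB₁ m h
    rw [hc0m] at h3
    exact hy1 (mul_eq_left.1 h3)
  have k2 : m' ∉ B₁ := by
    intro h
    have h3 := hcB₁ m' h
    rw [hc0m'] at h3
    have h4 : y' = 1 := mul_eq_left.1 h3
    apply hy1
    calc y = f⁻¹ * y' * f := by rw [hy']; group
      _ = 1 := by rw [h4]; group
  have k3 : m * m' ∉ B₁ := by
    intro h
    have h3 := hcB₁ _ h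
    have h4 : c0 * (m * m') * c0⁻¹ = (c0 * m * c0⁻¹) * (c0 * m' * c0⁻¹) := by group
    have h5 : y * m' = m' * y := mem_centralizer_iff.1 hmX' y (hWX hyW)
    rw [h4, hc0m, hc0m'] at h3
    have h6 : m * y * (m' * y') = m * m' * (y * y') := by
      calc m * y * (m' * y') = m * (y * m') * y' := by group
        _ = m * m' * (y * y') := by rw [h5]; group
    rw [h6] at h3
    have h7 : y * y' = 1 := mul_eq_left.1 h3
    exact hmv (mul_left_cancel (h7.trans hyy.symm))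
  have hmE : m ∈ E := mem_sup_right (mem_sup_left (mem_zpowers m))
  have hmE' : m' ∈ E := mem_sup_right (mem_sup_right (mem_zpowers m'))
  have h3 : 3 ≤ B₁.relIndex E := three_le_rel hmE hmE' k1 k2 k3
  have h4 : Nat.card B₁ * B₁.relIndex B = Nat.card B := card_rel hB₁B
  have h5 : Nat.card B₁ * B₁.relIndex E = Nat.card E := card_rel le_sup_left
  have h6 : Nat.card E ≤ Nat.card A := hA.2.2 E hEe hEO
  have h7 : 0 < Nat.card B₁ := Nat.card_pos
  have h8 : Nat.card B₁ * 3 ≤ Nat.card B₁ * 2 := by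
    calc Nat.card B₁ * 3 ≤ Nat.card B₁ * B₁.relIndex E := Nat.mul_le_mul_left _ h3
      _ = Nat.card E := h5
      _ ≤ Nat.card B := h6.trans hAB
      _ = Nat.card B₁ * B₁.relIndex B := h4.symm
      _ ≤ Nat.card B₁ * 2 := Nat.mul_le_mul_left _ h2
  omega

/-- the input of (3)-(5) -/
theorem loc_of (hML : ML.Final.MLK.{u, u}) {i : Fin 2} (hK : IsKGroup (CC v i)) {n : G} (c : Can T V v i n)
    {A : Subgroup G} (hA : A ∈ AA (o2 (centralizer (zc T : Set G))))
    (hW : A ⊓ centralizer (NU V v i : Set G) ≤ centralizer (WU V v i : Set G))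
    (hm : ¬ A ≤ centralizer (NU V v i : Set G))
    (hmem : ∀ g, Fl V v i g → g * n * g⁻¹ ∈ QQ v i ∧ g * n * g⁻¹ ∈ centralizer (XX V v i : Set G))
    (hcomm : ∀ g h, Fl V v i g → Fl V v i h → g * n * g⁻¹ * (h * n * h⁻¹) = h * n * h⁻¹ * (g * n * g⁻¹)) :
    Loc T V v i n A where
  can := c
  le := hA.2.1.trans (oD_le_C D i)
  aX := aX_of D hML hK hA hW
  mv := hm
  two := fun g hg f hf hmv => by
    have h1 : g * n * g⁻¹ * (g * n * g⁻¹) = 1 := by
      calc g * n * g⁻¹ * (g * n * g⁻¹) = g * (n * n) * g⁻¹ := by group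
        _ = 1 := by rw [c.sq D]; group
    exact vec_of D hML hK hA hW (hmem g hg).1 (hmem g hg).2 h1
      (cent_vec D hML hK c hA hW hmem hcomm hg hf hmv) f hf
  five := fun hQ _ g hg f hf => by
    have h1 : g * n * g⁻¹ * (g * n * g⁻¹) = 1 := by
      calc g * n * g⁻¹ * (g * n * g⁻¹) = g * (n * n) * g⁻¹ := by group
        _ = 1 := by rw [c.sq D]; group
    refine vec_of D hML hK hA hW (hmem g hg).1 (hmem g hg).2 h1 (fun a ha => ?_) f hf
    exact hQ g hg a (D.f3 i ⟨hA.2.1 ha.1, ha.2⟩)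

/-- (1b), the facts (0.4) as hypotheses -/
theorem oneB_of_vec (hML : ML.Final.MLK.{u, u}) {i : Fin 2} (hK : IsKGroup (CC v i)) (hL : LocF T V v i)
    (hmem : ∀ n, Can T V v i n → ∀ g, Fl V v i g →
      g * n * g⁻¹ ∈ QQ v i ∧ g * n * g⁻¹ ∈ centralizer (XX V v i : Set G))
    (hcomm : ∀ n, Can T V v i n → ∀ g h, Fl V v i g → Fl V v i h →
      g * n * g⁻¹ * (h * n * h⁻¹) = h * n * h⁻¹ * (g * n * g⁻¹)) : OneB T V v i := by
  intro A hA hm hW
  obtain ⟨n, c⟩ := can_of D (hA.2.1.trans (oD_le_C D i)) (aX_of D hML hK hA hW) hm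
  exact hL n A (loc_of D hML hK c hA hW hm (hmem n c) (hcomm n c))

/-- **(1b)** -/
theorem oneB (hML : ML.Final.MLK.{u, u}) (hK : ∀ i, IsKGroup (CC v i)) {i : Fin 2} (hV : ¬ V i ≤ NU V v i)
    (hL : LocF T V v i) : OneB T V v i :=
  oneB_of_vec D hML (hK i) hL (fun _ c _ hg => c.fl_mem D hML hK hV hg) fun _ c _ _ hg hh => c.fl_comm D hML hK hV hg hh

end fr

end Cfsg.Agent.Omega.TC.R

end

section


/-!
# CARD #18791, THEOREM R (helper691 #21425), (6.1), (6.2)

* `mv_of` : `OneB` at `i`, a member of `AA O₂(D)` moves `N_i`: a member of `AA (Q_i)` moves `V i`;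
* `exists_mv` : **(6.1)** `OneB` for both `i`: for both `i` a member of `AA (Q_i)` moves `V i`;
* `inter` : **(6.2)** `E_0 ∩ E_1 ≤ Ω₁Z(T)`.
-/

set_option autoImplicit false
set_option linter.unusedSectionVars false

namespace Cfsg.Agent.Omega.TC.R

open Subgroup Cfsg Cfsg.Agent.ZN Cfsg.Agent.Omega.TC.ExBoth
open Cfsg.Agent.Omega.OM.KTwo (CC QQ WU NU EU ne_add_one eq_add_one add_one_add_one)
open Cfsg.Agent.ZN.ChoiceBase (AA cj cj_centralizer cj_mem_AA AA_nonempty mem_normalizer_of_cj_le cj_le_iff)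
open Cfsg.Agent.Omega.NoFF.Basic (conj_le_iff conj_conj comm_symm V_le)
open Cfsg.Agent.MinSimple.VModule (o2_isPGroup)
open scoped Pointwise

universe u

variable {G : Type u} [Group G] [Finite G] {T : Subgroup G} {V P : Fin 2 → Subgroup G} {v : Fin 2 → G}
  (D : Fr T V P v) (hML : ML.Final.MLK.{u, u}) (hK : ∀ i, IsKGroup (CC v i))

include D hML hK

theorem mv_of {i : Fin 2} (hB : OneB T V v i) {A : Subgroup G} (hA : A ∈ AA (o2 (centralizer (zc T : Set G))))
    (hm : ¬ A ≤ centralizer (NU V v i : Set G)) : ∃ A' ∈ AA (QQ v i), ¬ A' ≤ centralizer (V i : Set G) := by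
  have h1 := sharp_mem D hML hK i hA
  set A' : Subgroup G := (A ⊓ centralizer (NU V v i : Set G)) ⊔ NU V v i with hA'
  have h2 : ¬ A' ≤ centralizer (WU V v i : Set G) := fun h => hB A hA hm (le_sup_left.trans h)
  by_contra hcon
  push Not at hcon
  apply h2
  refine comm_symm (V_le fun c hc => comm_symm ?_)
  have h3 : MulAut.conj c⁻¹ • A' ∈ AA (QQ v i) := by
    have h4 := cj_mem_AA c⁻¹ h1
    have h5 : cj c⁻¹ (QQ v i) = QQ v i := D.conj_QQ (inv_mem hc)
    rw [h5] at h4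
    exact h4
  have h4 := conj_le_iff (g := c) |>.2 (hcon _ h3)
  rw [conj_conj, mul_inv_cancel, map_one, one_smul] at h4
  rw [show MulAut.conj c • centralizer (V i : Set G) = centralizer ((MulAut.conj c • V i : Subgroup G) : Set G) from
    cj_centralizer c (V i)] at h4
  exact h4

/-- some member of `AA O₂(D)` moves some `N_i` -/
theorem exists_mvN : ∃ i, ∃ A ∈ AA (o2 (centralizer (zc T : Set G))), ¬ A ≤ centralizer (NU V v i : Set G) := by
  by_contra hcon
  push Not at hcon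
  set O := o2 (centralizer (zc T : Set G)) with hO
  set J : Subgroup G := sSup (AA O) with hJ
  have h1 : ∀ i, ∀ A, A ∈ AA O ↔ A ∈ AA (QQ v i) := by
    intro i A
    constructor
    · intro hA
      exact AA_of D hA (f3' D i hA.2.1 (hcon i A hA))
    · exact AA_sub D hML hK
  have h2 : ∀ i, CC v i ≤ normalizer (J : Set G) := by
    intro i g hg
    apply mem_normalizer_of_cj_le
    rw [cj_le_iff]
    refine sSup_le fun S hS => ?_
    rw [← cj_le_iff]
    have h3 := cj_mem_AA g ((h1 i S).1 hS)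
    have h4 : cj g (QQ v i) = QQ v i := D.conj_QQ hg
    rw [h4] at h3
    exact le_sSup ((h1 i _).2 h3)
  have h3 : IsPGroup 2 J := (o2_isPGroup _).to_le (sSup_le fun S hS => hS.2.1 : J ≤ O)
  have h4 := D.nonloc J h3 (h2 0) (h2 1)
  obtain ⟨A, hA⟩ := AA_nonempty O
  have h5 := (sharp D hML hK 1 hA).2.1
  have h6 : v (1 + 1) ∈ A := by
    apply h5
    exact ⟨D.mem_N 1, mem_centralizer_iff.2 fun a ha => D.comm_v _ (D.o2D_le_T (hA.2.1 ha))⟩
  have h7 : v (1 + 1) ∈ J := le_sSup hA h6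
  rw [h4, mem_bot] at h7
  exact D.ne _ h7

/-- **(6.1)** -/
theorem exists_mv (hB : ∀ i, OneB T V v i) (i : Fin 2) : ∃ A ∈ AA (QQ v i), ¬ A ≤ centralizer (V i : Set G) := by
  obtain ⟨k, A, hA, hm⟩ := exists_mvN D hML hK
  obtain ⟨A₁, hA₁, hm₁⟩ := mv_of D hML hK (hB k) hA hm
  rcases eq_or_ne k i with h | h
  · rw [← h]; exact ⟨A₁, hA₁, hm₁⟩
  · rw [eq_add_one h]
    refine mv_of D hML hK (hB (k + 1)) (AA_sub D hML hK hA₁) fun h1 => hm₁ ?_
    have h2 : V k ≤ NU V v (k + 1) := by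
      have := D.V_le_N (k + 1)
      rwa [add_one_add_one] at this
    exact h1.trans (centralizer_le h2)

/-- **(6.2)** -/
theorem inter (hB : ∀ i, OneB T V v i) : EU T v 0 ⊓ EU T v 1 ≤ zc T := by
  refine D.thmI hML hK (Qs := o2 (centralizer (zc T : Set G))) (ZN.le_normalizer_o2 _) le_rfl
    (fun i => (D.E_le_Q i).trans (D.Q_le_o2D i)) fun i => ?_
  obtain ⟨A, hA, hm⟩ := exists_mv D hML hK hB i
  exact ⟨A, AA_sub D hML hK hA, hm⟩

end Cfsg.Agent.Omega.TC.R

end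

section


/-!
# CARD #18791, THEOREM R (helper691 #21425 (3)-(5)): the local contradiction

`locF : LocF T V v i` from `Fr`, `VOff T` and `V i ≰ N_i`.
-/

set_option autoImplicit false
set_option linter.unusedSectionVars false

namespace Cfsg.Agent.Omega.TC.R

open Subgroup Cfsg Cfsg.Agent.ZN Cfsg.Agent.Omega.MinPar
open Cfsg.Agent.Omega.OM.KTwo (CC QQ WU NU EU FF ne_add_one eq_add_one add_one_add_one le_normalizer_V le_V)
open Cfsg.Agent.Omega.NoFF.Basic (conj_conj mem_conj conj_le_iff conj_le_centralizer comm_symm comm_mono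
  Z_le_V V_le conj_V_mul)
open Cfsg.Agent.Omega.NOThreeL.Pair (conj_eq_of_mem)
open Cfsg.Agent.ZN.ChoiceSit (syl_not_dvd)
open scoped Pointwise

universe u

variable {G : Type u} [Group G] [Finite G] {T : Subgroup G} {V P : Fin 2 → Subgroup G} {v : Fin 2 → G}

omit [Finite G] in
theorem nnc (A : Subgroup G) : normalizer (A : Set G) ≤ normalizer ((centralizer (A : Set G) : Subgroup G) : Set G) := by
  refine le_normalizer_of' fun g hg x hx => ?_
  rw [mem_centralizer_iff] at hx ⊢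
  intro y hy
  have h1 := hx _ ((mem_normalizer_iff''.1 hg y).1 hy)
  calc y * (g * x * g⁻¹) = g * (g⁻¹ * y * g * x) * g⁻¹ := by group
    _ = g * x * g⁻¹ * y := by rw [h1]; group

theorem relIndex_sup_norm {X E : Subgroup G} (h : X ≤ normalizer (E : Set G)) :
    X.relIndex (E ⊔ X) = X.relIndex E := by
  have hKH : E ≤ E ⊔ X := le_sup_left
  have hn : (E.subgroupOf (E ⊔ X)).Normal := (normal_subgroupOf_iff_le_normalizer hKH).2 (sup_le le_normalizer h)
  have h1 : E.relIndex (E ⊔ X) = E.relIndex X := by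
    have h := Subgroup.relIndex_sup_left (K := E.subgroupOf (E ⊔ X)) (H := X.subgroupOf (E ⊔ X))
    rw [← Subgroup.subgroupOf_sup hKH le_sup_right, Subgroup.relIndex_subgroupOf le_rfl,
      Subgroup.relIndex_subgroupOf le_sup_right] at h
    exact h
  have h2 := Subgroup.relIndex_mul_relIndex (E ⊓ X) E (E ⊔ X) inf_le_left le_sup_left
  have h3 := Subgroup.relIndex_mul_relIndex (E ⊓ X) X (E ⊔ X) inf_le_right le_sup_right
  have h4 : (E ⊓ X).relIndex X = E.relIndex X := Subgroup.inf_relIndex_right E X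
  have h4' : (E ⊓ X).relIndex E = X.relIndex E := Subgroup.inf_relIndex_left E X
  rw [h1, h4'] at h2
  rw [h4, ← h2, mul_comm] at h3
  exact Nat.eq_of_mul_eq_mul_right (Nat.pos_of_ne_zero (Subgroup.index_ne_zero_of_finite
      (H := E.subgroupOf X))) h3

section fr

variable (D : Fr T V P v)

include D

/-- a flag on a moved line is moved -/
theorem moved_point {i : Fin 2} {f : G} (hf : f ∈ CC v i) {c p : G} (hc : c ∈ CC v i) (hp : p ∈ P i)
    (hpv : p * v i * p⁻¹ ≠ v i) (hmv : ¬ ∀ x ∈ V i, f * (c * x * c⁻¹) * f⁻¹ ∈ MulAut.conj c • V i) :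
    f * (c * p * v i * (c * p)⁻¹) * f⁻¹ ≠ c * p * v i * (c * p)⁻¹ := by
  intro h
  apply hmv
  intro x hx
  by_cases hx1 : x = 1
  · rw [hx1]; simp
  have hyV := mem_V_conj D hp
  have hy1 : p * v i * p⁻¹ ≠ 1 := fun h => D.ne i (conj_eq_one_iff.1 h)
  have e1 : c * p * v i * (c * p)⁻¹ = c * (p * v i * p⁻¹) * c⁻¹ := by group
  rw [e1] at h
  have hv : f * (c * v i * c⁻¹) * f⁻¹ = c * v i * c⁻¹ := by
    rw [D.conj_v i hc, D.conj_v i hf]
  rcases D.eq_of_V hyV hy1 (D.mem i) (D.ne i) hpv hx hx1 with h2 | h2 | h2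
  · rw [h2, h]; exact ⟨_, hyV, rfl⟩
  · rw [h2, hv]; exact ⟨_, D.mem i, rfl⟩
  · have e2 : f * (c * x * c⁻¹) * f⁻¹ = (f * (c * (p * v i * p⁻¹) * c⁻¹) * f⁻¹) * (f * (c * v i * c⁻¹) * f⁻¹) := by
      rw [h2]; group
    rw [e2, h, hv]
    exact ⟨_, mul_mem hyV (D.mem i), by simp [MulAut.conj_apply, mul_assoc]⟩

/-- `A` moves a line on `v i` -/
theorem Loc.exists_moved {i : Fin 2} {n : G} {A : Subgroup G} (L : Loc T V v i n A) :
    ∃ f ∈ A, ∃ c ∈ CC v i, ¬ ∀ x ∈ V i, f * (c * x * c⁻¹) * f⁻¹ ∈ MulAut.conj c • V i := by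
  by_contra hcon
  push Not at hcon
  apply L.mv
  intro f hf
  refine D.fThree i (L.le hf) ?_
  -- `f` normalises all the lines; `[w, f] ∈ ⟨v i⟩` on each line and so on `W_i`
  have hfC := L.le hf
  have hn : ∀ c ∈ CC v i, c⁻¹ * f * c ∈ normalizer (V i : Set G) := by
    intro c hc
    have h2 := hcon f hf c hc
    refine ChoiceBase.mem_normalizer_iff_cj.2 ?_
    change MulAut.conj (c⁻¹ * f * c) • V i = V i
    refine Subgroup.eq_of_le_of_card_ge (fun w hw => ?_)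
      (Nat.card_congr (Subgroup.equivSMul (MulAut.conj (c⁻¹ * f * c)) (V i)).toEquiv).le
    rw [mem_conj] at hw
    have h4 := h2 _ hw
    rw [mem_conj] at h4
    have e : c⁻¹ * (f * (c * ((c⁻¹ * f * c)⁻¹ * w * (c⁻¹ * f * c)) * c⁻¹) * f⁻¹) * c = w := by group
    rwa [e] at h4
  let U : Subgroup G :=
    { carrier := {w | w ∈ WU V v i ∧ f * w * f⁻¹ * w⁻¹ ∈ zpowers (v i)}
      one_mem' := ⟨one_mem _, by simp⟩
      mul_mem' := by
        rintro a b ⟨ha, ha'⟩ ⟨hb, hb'⟩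
        refine ⟨mul_mem ha hb, ?_⟩
        have e : f * (a * b) * f⁻¹ * (a * b)⁻¹ = (f * a * f⁻¹ * a⁻¹) * (a * (f * b * f⁻¹ * b⁻¹) * a⁻¹) := by group
        rw [e, cv D (D.W_le_C i i ha) hb']
        exact mul_mem ha' hb'
      inv_mem' := by
        rintro a ⟨ha, ha'⟩
        refine ⟨inv_mem ha, ?_⟩
        have e : f * a⁻¹ * f⁻¹ * a⁻¹⁻¹ = (a⁻¹ * (f * a * f⁻¹ * a⁻¹) * a⁻¹⁻¹)⁻¹ := by group
        rw [e, cv D (inv_mem (D.W_le_C i i ha)) ha']
        exact inv_mem ha' }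
  have key : WU V v i ≤ U := by
    refine V_le fun c hc w hw => ?_
    have hwW : w ∈ WU V v i := by
      have h2 : MulAut.conj c • V i ≤ MulAut.conj c • WU V v i := conj_le_iff.2 (D.V_le_W i)
      rw [conj_eq_of_mem (D.C_le_N_W i hc)] at h2
      exact h2 hw
    refine ⟨hwW, ?_⟩
    rw [mem_conj] at hw
    have hcf : c⁻¹ * f * c ∈ CC v i := mul_mem (mul_mem (inv_mem hc) hfC) hc
    have h3 := D.comm_VN hcf (hn c hc) hw
    have h4 := cv D hc h3
    rw [← h4] at h3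
    have h5 := cv D (D.W_le_C i i hwW) h3
    rw [← h5] at h3
    have e : w * (c * ((c⁻¹ * w * c)⁻¹ * (c⁻¹ * f * c) * (c⁻¹ * w * c) * (c⁻¹ * f * c)⁻¹) * c⁻¹) * w⁻¹ =
        f * w * f⁻¹ * w⁻¹ := by group
    rwa [e] at h3
  exact fun w hw => (key hw).2

/-- **(3)** -/
theorem Loc.three {i : Fin 2} {n : G} {A : Subgroup G} (L : Loc T V v i n A) {k : G} (hk : k ∈ QQ v i)
    (hkV : k ∈ centralizer (V i : Set G)) {p : G} (hp : p ∈ P i) : k * (p * n * p⁻¹) * k⁻¹ = p * n * p⁻¹ := by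
  have hXC := D.Q_le_cent_N i
  by_cases hpv : p * v i * p⁻¹ = v i
  · have hpC : p ∈ CC v i := by
      rw [mem_centralizer_singleton_iff]
      calc p * v i = p * v i * p⁻¹ * p := by group
        _ = v i * p := by rw [hpv]
    have hN : p * n * p⁻¹ ∈ NU V v i := (mem_normalizer_iff.1 (D.C_le_N_N i hpC) n).1 L.can.nN
    rw [← mem_centralizer_iff.1 (hXC hk) _ hN, mul_inv_cancel_right]
  obtain ⟨f, hf, c, hc, hmv⟩ := L.exists_moved D
  have hfC := L.le hf
  have hy' := moved_point D hfC hc hp hpv hmv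
  have hgF : Fl V v i (c * p) := Fl_mul D hc (Fl_P D hp)
  have h2 := L.two _ hgF f hf hy'
  set g := c * p with hg
  set y := g * v i * g⁻¹ with hy
  set k' := c * k * c⁻¹ with hk'
  have hk'Q : k' ∈ QQ v i := (mem_normalizer_iff.1 (ZN.le_normalizer_o2 _ hc) k).1 hk
  have hVg : MulAut.conj g • V i = MulAut.conj c • V i := by
    rw [hg, ← conj_conj, conj_eq_of_mem (D.PN i i hp)]
  have hk'C : k' ∈ centralizer ((MulAut.conj g • V i : Subgroup G) : Set G) := by
    rw [hVg, mem_centralizer_iff]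
    intro x hx
    rw [SetLike.mem_coe, mem_conj] at hx
    have h3 := mem_centralizer_iff.1 hkV _ hx
    calc x * k' = c * (c⁻¹ * x * c * k) * c⁻¹ := by rw [hk']; group
      _ = k' * x := by rw [h3, hk']; group
  have hN : ∀ x ∈ NU V v i, k' * x = x * k' := fun x hx => (mem_centralizer_iff.1 (hXC hk'Q) x hx).symm
  have hk'C' : k' ∈ centralizer ((MulAut.conj (f * g) • V i : Subgroup G) : Set G) := by
    rw [mem_centralizer_iff]
    intro x hx
    rw [← conj_conj, SetLike.mem_coe, mem_conj] at hx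
    set z := f⁻¹ * x * f with hz
    have hxz : x = f * z * f⁻¹ := by rw [hz]; group
    have hzX : z ∈ XX V v i := (le_sup_left : WU V v i ≤ XX V v i) (Fl_line D hgF hx)
    have h3 := hN _ (L.aX f hf z hzX)
    have h4 : z * k' = k' * z := mem_centralizer_iff.1 hk'C z hx
    have e : x = (f * z * f⁻¹ * z⁻¹) * z := by rw [hxz]; group
    rw [e, mul_assoc, h4, ← mul_assoc, ← h3]; group
  -- the two functionals
  have hfix : k' * (g * n * g⁻¹) * k'⁻¹ = g * n * g⁻¹ := by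
    rcases L.can.chi D g hk'C with h3 | h3
    · exact h3
    exfalso
    rw [← hy] at h3
    set u := f * (g * n * g⁻¹) * f⁻¹ * (g * n * g⁻¹)⁻¹ with hu
    have h4 := hN u h2
    have h5 : k' * (f * g * n * (f * g)⁻¹) * k'⁻¹ = f * g * n * (f * g)⁻¹ * y := by
      have e1 : f * g * n * (f * g)⁻¹ = u * (g * n * g⁻¹) := by rw [hu]; group
      rw [e1]
      calc k' * (u * (g * n * g⁻¹)) * k'⁻¹ = (k' * u) * (g * n * g⁻¹) * k'⁻¹ := by group
        _ = u * (k' * (g * n * g⁻¹) * k'⁻¹) := by rw [h4]; group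
        _ = u * (g * n * g⁻¹) * y := by rw [h3]; group
    have h6 : y ≠ 1 := fun h => D.ne i (conj_eq_one_iff.1 h)
    rcases L.can.chi D (f * g) hk'C' with h7 | h7
    · rw [h5] at h7
      exact h6 (mul_eq_left.1 h7)
    · rw [h5] at h7
      have h8 := mul_left_cancel h7
      apply hy'
      calc f * y * f⁻¹ = f * g * v i * (f * g)⁻¹ := by rw [hy]; group
        _ = y := h8.symm
  have h9 : k * (p * n * p⁻¹) * k⁻¹ = c⁻¹ * (k' * (g * n * g⁻¹) * k'⁻¹) * c := by rw [hk', hg]; group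
  rw [h9, hfix, hg]; group

/-- **(4)** -/
theorem Loc.four (hML : ML.Final.MLK.{u, u}) (hK : ∀ i, IsKGroup (CC v i)) {i : Fin 2} (hB : WOff T V i)
    (hV : ¬ V i ≤ NU V v i) {n : G} {A : Subgroup G} (L : Loc T V v i n A) :
    QQ v i ≤ centralizer (V i : Set G) := by
  intro k hk
  by_contra hkV
  have hkT := D.Q_le_T i hk
  have ho : o2 (P i) = T ⊓ centralizer (V i : Set G) := Phi.o2_P D i
  have hko : k ∉ o2 (P i) := by rw [ho]; exact fun h => hkV h.2
  obtain ⟨e, he, he1, hev⟩ := D.exists_ne_v i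
  obtain ⟨p, hp, -, hpe⟩ := D.tr (ne_add_one i) he he1
  have hke := Phi.moves D hkT hko he he1 hev
  have hkP := D.T_le_P i hkT
  have hev1 : e * v i ≠ 1 := by
    intro h
    apply hev
    have h2 : e * v i = v i * v i := by rw [h, D.v_sq]
    exact mul_right_cancel h2
  have hq : k * p * v i * (k * p)⁻¹ = e * v i := by
    rw [← hke, ← hpe]; group
  obtain ⟨t, ht, h1, h2⟩ := L.can.indep D hML hK hB hV hp (mul_mem hkP hp) (by
    rw [hpe, hq]
    intro h
    exact D.ne i (left_eq_mul.1 h))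
  have h1' := (L.can.chi_o D hp ht).resolve_left h1
  rw [hpe] at h1'
  have htT : t ∈ T ∧ t ∈ centralizer (V i : Set G) := by rw [ho] at ht; exact ht
  have htC : t ∈ CC v i := D.T_le_C i htT.1
  set m := t * k * t⁻¹ * k⁻¹ with hm
  have hmQ : m ∈ QQ v i := by
    refine mul_mem ?_ (inv_mem hk)
    exact (mem_normalizer_iff.1 (ZN.le_normalizer_o2 _ htC) k).1 hk
  have hmV : m ∈ centralizer (V i : Set G) := by
    rw [mem_centralizer_iff]
    intro x hx
    have h3 : k⁻¹ * x * k ∈ V i := (mem_normalizer_iff''.1 (D.T_le_N i hkT) x).1 hx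
    have h4 := mem_centralizer_iff.1 htT.2 _ h3
    have h5 := mem_centralizer_iff.1 htT.2 _ hx
    have h6 : m * x * m⁻¹ = x := by
      calc m * x * m⁻¹ = t * k * (t⁻¹ * (k⁻¹ * x * k * t)) * k⁻¹ * t⁻¹ := by rw [hm]; group
        _ = t * x * t⁻¹ := by rw [h4]; group
        _ = x := by rw [← h5, mul_inv_cancel_right]
    calc x * m = m * x * m⁻¹ * m := by rw [h6]
      _ = m * x := by group
  have h3 := L.three D hmQ hmV (mul_mem hkP hp)
  have h4 := mem_centralizer_iff.1 hmV (e * v i) (mul_mem he (D.mem i))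
  have h5 : t * (k * p * n * (k * p)⁻¹) * t⁻¹ = k * p * n * (k * p)⁻¹ * (e * v i) := by
    calc t * (k * p * n * (k * p)⁻¹) * t⁻¹ = m * (k * (t * (p * n * p⁻¹) * t⁻¹) * k⁻¹) * m⁻¹ := by rw [hm]; group
      _ = m * (k * p * n * (k * p)⁻¹ * (k * e * k⁻¹)) * m⁻¹ := by rw [h1']; group
      _ = (m * (k * p * n * (k * p)⁻¹) * m⁻¹) * (m * (e * v i) * m⁻¹) := by rw [hke]; group
      _ = k * p * n * (k * p)⁻¹ * (e * v i) := by rw [h3, ← h4, mul_inv_cancel_right]
  rw [h2] at h5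
  exact hev1 (left_eq_mul.1 h5)

/-- `{c ∈ C_i : [n^g, c] ∈ N_i (g a flag), [X_i, c] ≤ N_i}` -/
def GX (D : Fr T V P v) (i : Fin 2) (n : G) : Subgroup G where
  carrier := {c | c ∈ CC v i ∧ (∀ g, Fl V v i g → c * (g * n * g⁻¹) * c⁻¹ * (g * n * g⁻¹)⁻¹ ∈ NU V v i) ∧
    ∀ x ∈ XX V v i, c * x * c⁻¹ * x⁻¹ ∈ NU V v i}
  one_mem' := ⟨one_mem _, fun g _ => by simp, fun x _ => by simp⟩
  mul_mem' := by
    rintro a b ⟨ha, ha', ha''⟩ ⟨hb, hb', hb''⟩
    have hcom : ∀ u : G, a * u * a⁻¹ * u⁻¹ ∈ NU V v i → b * u * b⁻¹ * u⁻¹ ∈ NU V v i →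
        a * b * u * (a * b)⁻¹ * u⁻¹ ∈ NU V v i := by
      intro u h1 h2
      have e : a * b * u * (a * b)⁻¹ * u⁻¹ = (a * (b * u * b⁻¹ * u⁻¹) * a⁻¹) * (a * u * a⁻¹ * u⁻¹) := by group
      rw [e]
      exact mul_mem ((mem_normalizer_iff.1 (D.C_le_N_N i ha) _).1 h2) h1
    exact ⟨mul_mem ha hb, fun g hg => hcom _ (ha' g hg) (hb' g hg), fun x hx => hcom x (ha'' x hx) (hb'' x hx)⟩
  inv_mem' := by
    rintro a ⟨ha, ha', ha''⟩
    have hcom : ∀ u : G, a * u * a⁻¹ * u⁻¹ ∈ NU V v i → a⁻¹ * u * a⁻¹⁻¹ * u⁻¹ ∈ NU V v i := by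
      intro u h1
      have e : a⁻¹ * u * a⁻¹⁻¹ * u⁻¹ = a⁻¹ * (a * u * a⁻¹ * u⁻¹)⁻¹ * a⁻¹⁻¹ := by group
      rw [e]
      exact (mem_normalizer_iff.1 (D.C_le_N_N i (inv_mem ha)) _).1 (inv_mem h1)
    exact ⟨inv_mem ha, fun g hg => hcom _ (ha' g hg), fun x hx => hcom x (ha'' x hx)⟩

theorem GX_le (i : Fin 2) (n : G) : GX D i n ≤ CC v i := fun _ h => h.1

theorem GX_normal (i : Fin 2) (n : G) : CC v i ≤ normalizer (GX D i n : Set G) := by
  refine le_normalizer_of' fun d hd c hc => ?_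
  obtain ⟨h1, h2, h3⟩ := hc
  have hcom : ∀ u u' : G, d⁻¹ * u * d = u' → c * u' * c⁻¹ * u'⁻¹ ∈ NU V v i →
      d * c * d⁻¹ * u * (d * c * d⁻¹)⁻¹ * u⁻¹ ∈ NU V v i := by
    rintro u _ rfl h
    have e : d * c * d⁻¹ * u * (d * c * d⁻¹)⁻¹ * u⁻¹ =
        d * (c * (d⁻¹ * u * d) * c⁻¹ * (d⁻¹ * u * d)⁻¹) * d⁻¹ := by group
    rw [e]
    exact (mem_normalizer_iff.1 (D.C_le_N_N i hd) _).1 h
  refine ⟨mul_mem (mul_mem hd h1) (inv_mem hd), fun g hg => ?_, fun x hx => ?_⟩
  · refine hcom _ (d⁻¹ * g * n * (d⁻¹ * g)⁻¹) (by group) ?_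
    exact h2 _ (Fl_mul D (inv_mem hd) hg)
  · exact hcom _ _ rfl (h3 _ ((mem_normalizer_iff''.1 (D.C_le_N_X i hd) x).1 hx))

/-- a normal subgroup of `C_i` centralising `a * v_j`, `a ∈ V i`, centralises `N_i` -/
theorem cent_N_of_av {i : Fin 2} {X : Subgroup G} (hn : CC v i ≤ normalizer (X : Set G))
    {a : G} (ha : a ∈ V i) (h : a * v (i + 1) ∈ centralizer (X : Set G)) : X ≤ centralizer (NU V v i : Set G) := by
  have hij := ne_add_one i
  obtain ⟨w, hw, hw1, hwv⟩ := D.exists_ne_v (i + 1)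
  have hXc : ∀ l ∈ CC v i, ∀ x : G, x ∈ centralizer (X : Set G) → l * x * l⁻¹ ∈ centralizer (X : Set G) := by
    intro l hl x hx
    rw [mem_centralizer_iff] at hx ⊢
    intro y hy
    have h1 := hx _ ((mem_normalizer_iff''.1 (hn hl) y).1 hy)
    calc y * (l * x * l⁻¹) = l * (l⁻¹ * y * l * x) * l⁻¹ := by group
      _ = l * x * l⁻¹ * y := by rw [h1]; group
  obtain ⟨l, hl, hlV, hlw⟩ := D.tr hij.symm hw hw1
  have hlC : l ∈ CC v i := cent_V_le D i hlV
  have h1 := hXc l hlC _ h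
  have hla : l * a * l⁻¹ = a := by rw [← mem_centralizer_iff.1 hlV a ha, mul_inv_cancel_right]
  have h2 : l * (a * v (i + 1)) * l⁻¹ = a * w := by
    calc l * (a * v (i + 1)) * l⁻¹ = (l * a * l⁻¹) * (l * v (i + 1) * l⁻¹) := by group
      _ = a * w := by rw [hla, hlw]
  rw [h2] at h1
  -- `r = v_j⁻¹ w`
  have h3 : (v (i + 1))⁻¹ * w ∈ centralizer (X : Set G) := by
    have e : (a * v (i + 1))⁻¹ * (a * w) = (v (i + 1))⁻¹ * w := by group
    rw [← e]
    exact Subgroup.mul_mem _ (Subgroup.inv_mem _ h) h1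
  have hrV : (v (i + 1))⁻¹ * w ∈ V (i + 1) := (V (i + 1)).mul_mem ((V (i + 1)).inv_mem (D.mem _)) hw
  have hr1 : (v (i + 1))⁻¹ * w ≠ 1 := fun h => hwv (inv_mul_eq_one.1 h).symm
  obtain ⟨l', hl', hlV', hlr⟩ := D.tr hij.symm hrV hr1
  have hlC' : l' ∈ CC v i := cent_V_le D i hlV'
  have h4 : v (i + 1) ∈ centralizer (X : Set G) := by
    have h5 := hXc l'⁻¹ (inv_mem hlC') _ h3
    rw [← hlr] at h5
    have e : l'⁻¹ * (l' * v (i + 1) * l'⁻¹) * l'⁻¹⁻¹ = v (i + 1) := by group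
    rwa [e] at h5
  have h5 : NU V v i ≤ centralizer (X : Set G) :=
    D.N_le_of i h4 (hn.trans (nnc X))
  exact comm_symm h5

/-- **(5)** : `T ∩ X` moves `V i` -/
theorem exists_mover {i : Fin 2} (hB : WOff T V i) (hV : ¬ V i ≤ NU V v i) {n : G} (c : Can T V v i n)
    (hm : ¬ GX D i n ≤ centralizer (NU V v i : Set G)) : ∃ s ∈ T, s ∈ GX D i n ∧ s ∉ o2 (P i) := by
  by_contra hcon
  push Not at hcon
  set X := GX D i n with hX
  have hij := ne_add_one i
  have ho : o2 (P i) = T ⊓ centralizer (V i : Set G) := Phi.o2_P D i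
  obtain ⟨e, he, he1, hev⟩ := D.exists_ne_v i
  have hXC := GX_le D i n
  have hXn := GX_normal D i n
  have hSC : o2 (P i) ≤ CC v i := by rw [ho]; exact inf_le_left.trans (D.T_le_C i)
  have hSX : o2 (P i) ≤ normalizer (X : Set G) := hSC.trans hXn
  -- the group `H = X S_2`
  set H := X ⊔ o2 (P i) with hH
  have hHC : H ≤ CC v i := sup_le hXC hSC
  have hTH : T ⊓ H ≤ o2 (P i) := by
    rintro t ⟨ht, htH⟩
    obtain ⟨x, hx, s, hs, rfl⟩ := OM.KTwo.exists_mul_of_mem_sup hSX htH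
    have hsT : s ∈ T := by rw [ho] at hs; exact hs.1
    have hxT : x ∈ T := by
      have e1 : x = x * s * s⁻¹ := by group
      rw [e1]
      exact T.mul_mem ht (T.inv_mem hsT)
    exact mul_mem (hcon x hxT hx) hs
  have hoH : o2 (P i) = T ⊓ H := by
    refine le_antisymm (le_inf ?_ le_sup_right) hTH
    rw [ho]; exact inf_le_left
  have hodd : Odd ((o2 (P i)).relIndex H) := by
    rw [← Nat.not_even_iff_odd, even_iff_two_dvd]
    intro h2
    have h3 : (o2 (P i)).relIndex H = (o2 (P i)).relIndex X := relIndex_sup_norm hSX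
    have h4 : T.relIndex (X ⊔ T) = T.relIndex X := relIndex_sup_norm ((D.T_le_C i).trans hXn)
    have h5 : (o2 (P i)).relIndex X = T.relIndex X := by
      rw [← inf_relIndex_right (o2 (P i)), ← inf_relIndex_right T]
      congr 1
      refine le_antisymm (le_inf (inf_le_left.trans ?_) inf_le_right) (le_inf ?_ inf_le_right)
      · rw [ho]; exact inf_le_left
      · exact fun x hx => hcon x hx.1 hx.2
    refine syl_not_dvd (D.syl i) ?_
    rw [h3, h5, ← h4] at h2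
    rw [← relIndex_mul_relIndex T (X ⊔ T) _ le_sup_right (sup_le hXC (D.T_le_C i))]
    exact h2.mul_right _
  have heC : e ∈ CC v i := D.T_le_C i (D.V_le_T i he)
  have hNn := D.C_le_N_N i
  have hse : ∀ s ∈ o2 (P i), s * e * s⁻¹ = e := fun s hs => o2_comm D hs he
  have heX : e ∈ XX V v i := D.V_le_X i he
  obtain ⟨y, hy, hyH⟩ := Cfsg.Agent.Omega.BTwo.Avg.avg (X := H) (P := o2 (P i)) (Y := NU V v i) (D := ⊥) (c := e)
    le_sup_right hodd bot_le (fun x hx y hy => (mem_normalizer_iff.1 (hNn (hHC hx)) y).1 hy)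
    (fun x _ y hy => by rw [mem_bot] at hy ⊢; rw [hy]; group)
    (fun x _ y hy => by rw [mem_bot] at hy ⊢; rw [hy]; group)
    (fun y hy => by rw [mem_bot, ← pow_two]; exact D.N_sq i y hy)
    (fun x hx => by
      obtain ⟨a, ha, s, hs, rfl⟩ := OM.KTwo.exists_mul_of_mem_sup hSX hx
      have e1 : e⁻¹ * (a * s) * e * (a * s)⁻¹ = e⁻¹ * (a * (s * e * s⁻¹) * a⁻¹ * e⁻¹) * e⁻¹⁻¹ := by group
      rw [e1, hse s hs]
      exact (mem_normalizer_iff.1 (hNn (inv_mem heC)) _).1 (ha.2.2 e heX))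
    (fun s hs => by
      rw [mem_bot]
      calc e⁻¹ * s * e * s⁻¹ = e⁻¹ * (s * e * s⁻¹) := by group
        _ = 1 := by rw [hse s hs, inv_mul_cancel])
  have hcomm : ∀ x ∈ H, x * (e * y) = e * y * x := by
    intro x hx
    have h1 := hyH x hx
    rw [mem_bot] at h1
    calc x * (e * y) = e * y * ((e * y)⁻¹ * x * (e * y) * x⁻¹) * x := by group
      _ = e * y * x := by rw [h1, mul_one]
  have hey : e * y = y * e := mem_centralizer_iff.1 (D.N_le_cent_Q i hy) e (D.U_le_Q i he)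
  have h1 : e * y ∈ zc (o2 (P i)) := by
    rw [ZN.mem_zc]
    refine ⟨mul_mem ?_ (Phi.N_le_o2 D i hy), fun t ht => hcomm t (mem_sup_right ht), ?_⟩
    · exact Phi.W_le_o2 D i (D.V_le_W i he)
    · rw [pow_two]
      calc e * y * (e * y) = e * (y * e) * y := by group
        _ = (e * e) * (y * y) := by rw [← hey]; group
        _ = 1 := by rw [← pow_two, ← pow_two, D.sqV i e he, D.N_sq i y hy, one_mul]
  have hXey : e * y ∈ centralizer (X : Set G) := mem_centralizer_iff.2 fun x hx => hcomm x (mem_sup_left hx)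
  obtain ⟨a, ha, h2 | h2⟩ := D.mem_zc_o2 hB hij h1
  · have haN : a ∉ NU V v i := by
      intro h3
      have h4 : e ∈ NU V v i := by
        have e1 : e = a * y⁻¹ := by rw [← h2]; group
        rw [e1]; exact mul_mem h3 (inv_mem hy)
      rcases mem_N_V D hV c.rad he h4 with h | h
      · exact he1 h
      · exact hev h
    have ha1 : a ≠ 1 := fun h => haN (h ▸ one_mem _)
    have hav : a ≠ v i := fun h => haN (h ▸ c.rad)
    rw [h2] at hXey
    have hvX : v i ∈ centralizer (X : Set G) :=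
      mem_centralizer_iff.2 fun x hx => mem_centralizer_singleton_iff.1 (hXC hx)
    have hVX : V i ≤ centralizer (X : Set G) := by
      intro x hx
      by_cases hx1 : x = 1
      · rw [hx1]; exact one_mem _
      rcases D.eq_of_V ha ha1 (D.mem i) (D.ne i) hav hx hx1 with h | h | h
      · rw [h]; exact hXey
      · rw [h]; exact hvX
      · rw [h]; exact mul_mem hXey hvX
    have hWX : WU V v i ≤ centralizer (X : Set G) := by
      refine V_le fun c hc => ?_
      have h3 : MulAut.conj c • V i ≤ MulAut.conj c • centralizer (X : Set G) := conj_le_iff.2 hVX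
      rwa [conj_eq_of_mem ((hXn.trans (nnc X)) hc)] at h3
    exact hm (D.cent_N_of_cent_W i hXC (comm_symm hWX))
  · rw [h2] at hXey
    exact hm (cent_N_of_av D hXn ha hXey)

/-- **(3)-(5)** of #21425, general form -/
theorem locF' (hML : ML.Final.MLK.{u, u}) (hK : ∀ i, IsKGroup (CC v i)) {i : Fin 2} (hB : WOff T V i)
    (hV : ¬ V i ≤ NU V v i) : LocF T V v i := by
  intro n A L
  have hQV := L.four D hML hK hB hV
  have hQn : CC v i ≤ normalizer (QQ v i : Set G) := ZN.le_normalizer_o2 _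
  have hQW : WU V v i ≤ centralizer (QQ v i : Set G) := by
    refine V_le fun c hc => ?_
    have h3 : MulAut.conj c • V i ≤ MulAut.conj c • centralizer (QQ v i : Set G) := conj_le_iff.2 (comm_symm hQV)
    rwa [conj_eq_of_mem ((hQn.trans (nnc (QQ v i))) hc)] at h3
  have hQX : QQ v i ≤ centralizer (XX V v i : Set G) :=
    comm_symm (sup_le hQW (D.N_le_cent_Q i))
  have hfl : ∀ g, Fl V v i g → ∀ q ∈ QQ v i, q * (g * n * g⁻¹) = g * n * g⁻¹ * q := by
    intro g hg q hq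
    obtain ⟨c, hc, p, hp, rfl⟩ := Fl_exists D hg
    have h1 : c⁻¹ * q * c ∈ QQ v i := (mem_normalizer_iff''.1 (hQn hc) q).1 hq
    have h2 := L.three D h1 (hQV h1) hp
    have h3 := congrArg (fun t => c * t * c⁻¹) h2
    have h4 : q * (c * p * n * (c * p)⁻¹) * q⁻¹ = c * p * n * (c * p)⁻¹ := by
      calc q * (c * p * n * (c * p)⁻¹) * q⁻¹ = c * (c⁻¹ * q * c * (p * n * p⁻¹) * (c⁻¹ * q * c)⁻¹) * c⁻¹ := by group
        _ = c * p * n * (c * p)⁻¹ := by rw [h2]; group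
    calc q * (c * p * n * (c * p)⁻¹) = q * (c * p * n * (c * p)⁻¹) * q⁻¹ * q := by group
      _ = _ := by rw [h4]
  have hA := L.five hfl hQX
  have hAX : A ≤ GX D i n := fun f hf => ⟨L.le hf, fun g hg => hA g hg f hf, fun x hx => L.aX f hf x hx⟩
  obtain ⟨s, hsT, hsX, hso⟩ := exists_mover D hB hV L.can fun h => L.mv (hAX.trans h)
  obtain ⟨e, he, he1, hev⟩ := D.exists_ne_v i
  obtain ⟨p, hp, -, hpe⟩ := D.tr (ne_add_one i) he he1
  have hse := Phi.moves D hsT hso he he1 hev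
  have hsP := D.T_le_P i hsT
  have hq : s * p * v i * (s * p)⁻¹ = e * v i := by
    rw [← hse, ← hpe]; group
  obtain ⟨t, ht, h1, h2⟩ := L.can.indep D hML hK hB hV hp (mul_mem hsP hp) (by
    rw [hpe, hq]
    intro h
    exact D.ne i (left_eq_mul.1 h))
  have h1' := (L.can.chi_o D hp ht).resolve_left h1
  rw [hpe] at h1'
  have htC : t ∈ CC v i := by
    rw [Phi.o2_P D i] at ht
    exact D.T_le_C i ht.1
  have h3 : s * (p * n * p⁻¹) * s⁻¹ * (p * n * p⁻¹)⁻¹ ∈ NU V v i := hsX.2.1 p (Fl_P D hp)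
  set δ := s * (p * n * p⁻¹) * s⁻¹ * (p * n * p⁻¹)⁻¹ with hδ
  have h4 : t * δ * t⁻¹ ∈ NU V v i := (mem_normalizer_iff.1 (D.C_le_N_N i htC) δ).1 h3
  have h5 : t * δ * t⁻¹ = s * (p * n * p⁻¹) * s⁻¹ * (p * n * p⁻¹ * e)⁻¹ := by
    calc t * δ * t⁻¹ = (t * (s * p * n * (s * p)⁻¹) * t⁻¹) * (t * (p * n * p⁻¹) * t⁻¹)⁻¹ := by rw [hδ]; group
      _ = s * (p * n * p⁻¹) * s⁻¹ * (p * n * p⁻¹ * e)⁻¹ := by rw [h2, h1']; group
  obtain ⟨-, h6⟩ := L.can.fl_mem D hML hK hV (Fl_P D hp)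
  have h7 := mem_centralizer_iff.1 h6 e (D.V_le_X i he)
  have h8 : e ∈ NU V v i := by
    have e1 : (t * δ * t⁻¹)⁻¹ * δ = e := by
      rw [h5, hδ]
      calc (s * (p * n * p⁻¹) * s⁻¹ * (p * n * p⁻¹ * e)⁻¹)⁻¹ * (s * (p * n * p⁻¹) * s⁻¹ * (p * n * p⁻¹)⁻¹) =
          p * n * p⁻¹ * e * (p * n * p⁻¹)⁻¹ := by group
        _ = e := by rw [← h7, mul_inv_cancel_right]
    rw [← e1]
    exact mul_mem (inv_mem h4) h3
  rcases mem_N_V D hV L.can.rad he h8 with h | h
  · exact he1 h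
  · exact hev h

/-- **(3)-(5)** of #21425 -/
theorem locF (hML : ML.Final.MLK.{u, u}) (hK : ∀ i, IsKGroup (CC v i)) (hB : VOff T) {i : Fin 2}
    (hV : ¬ V i ≤ NU V v i) : LocF T V v i := locF' D hML hK (D.woff hB i) hV

end fr

end Cfsg.Agent.Omega.TC.R

end

section


/-!
# CARD #18791, THEOREM R (helper691 #21425): (1b) from (V!) (helper349, helper674)
-/

set_option autoImplicit false

namespace Cfsg.Agent.Omega.TC.R

open Subgroup Cfsg Cfsg.Agent.ZN
open Cfsg.Agent.Omega.OM.KTwo (CC QQ WU NU EU)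

universe u

variable {G : Type u} [Group G] [Finite G] {T : Subgroup G} {V P : Fin 2 → Subgroup G} {v : Fin 2 → G}

/-- **(1b)**: `V i ≰ N_i`, `A ∈ AA(O)` moves `N_i` ⇒ `C_A(N_i)` moves `W_i` -/
theorem oneB_main (D : Fr T V P v) (hML : ML.Final.MLK.{u, u}) (hK : ∀ i, IsKGroup (CC v i)) (hB : VOff T)
    {i : Fin 2} (hV : ¬ V i ≤ NU V v i) : OneB T V v i :=
  oneB D hML hK hV (locF D hML hK hB hV)

end Cfsg.Agent.Omega.TC.R

end
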